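import Mathlib.Algebra.Category.ModuleCat.Presheaf.Sheafification
import Mathlib.Algebra.Category.ModuleCat.Presheaf.Colimits
import Mathlib.Algebra.Category.ModuleCat.Sheaf.Colimits
import Mathlib.Algebra.Category.ModuleCat.Sheaf.Abelian
import Mathlib.Algebra.Category.Grp.AB
import Mathlib.CategoryTheory.Sites.Abelian

/-!
The forgetful functor from sheaves of modules to sheaves of abelian groups is exact.
-/

universe u

open CategoryTheory Category Limits Opposite

noncomputable section

namespace Groth.Agent.CohQC

variable {C : Type u} [SmallCategory C] {J : GrothendieckTopology C} (R : Sheaf J RingCat.{u})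

instance sheafification_toSheaf_preservesColimitsOfShape (K : Type) [SmallCategory K] [FinCategory K] :
    PreservesColimitsOfShape K
      (PresheafOfModules.sheafification.{u} (R := R) (𝟙 R.obj) ⋙ SheafOfModules.toSheaf.{u} R) :=
  haveI : PreservesColimitsOfSize.{0, 0} (presheafToSheaf J AddCommGrpCat.{u}) :=
    (sheafificationAdjunction J AddCommGrpCat.{u}).leftAdjoint_preservesColimits
  comp_preservesColimitsOfShape (PresheafOfModules.toPresheaf.{u} R.obj) (presheafToSheaf J AddCommGrpCat.{u})

/-- Finite colimits of sheaves of modules are computed on underlying abelian sheaves. -/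
instance toSheaf_preservesFiniteColimits : PreservesFiniteColimits (SheafOfModules.toSheaf.{u} R) where
  preservesFiniteColimits K _ _ := ⟨fun {F} => by
    let G := PresheafOfModules.sheafification.{u} (R := R) (𝟙 R.obj)
    have : PreservesColimitsOfSize.{0, 0} G :=
      (PresheafOfModules.sheafificationAdjunction (R := R) (𝟙 R.obj)).leftAdjoint_preservesColimits
    let P := F ⋙ SheafOfModules.forget R ⋙ PresheafOfModules.restrictScalars (𝟙 R.obj)
    have h : PreservesColimit (P ⋙ G) (SheafOfModules.toSheaf.{u} R) :=
      preservesColimit_of_preserves_colimit_cocone (isColimitOfPreserves G (colimit.isColimit P))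
        (isColimitOfPreserves (G ⋙ SheafOfModules.toSheaf.{u} R) (colimit.isColimit P))
    exact preservesColimit_of_iso_diagram _ (Functor.associator _ _ _ ≪≫ Functor.isoWhiskerLeft F
      (asIso (PresheafOfModules.sheafificationAdjunction (R := R) (𝟙 R.obj)).counit) ≪≫ F.rightUnitor :
        P ⋙ G ≅ F)⟩

end Groth.Agent.CohQC
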