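import Groth.Prelude.Def_Coh

/-!
Functoriality of `H^n` in the module.
-/

universe u

open CategoryTheory AlgebraicGeometry

noncomputable section

namespace Groth.Agent.CohQC

variable {X : Scheme.{u}} (n : ℕ)

lemma hmap_comp {F G H : X.Modules} (a : F ⟶ G) (b : G ⟶ H) (x : Coh.HH X F n) :
    Sheaf.H.map ((SheafOfModules.toSheaf X.ringCatSheaf).map (a ≫ b)) n x =
      Sheaf.H.map ((SheafOfModules.toSheaf X.ringCatSheaf).map b) n
        (Sheaf.H.map ((SheafOfModules.toSheaf X.ringCatSheaf).map a) n x) :=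
  (congr_arg (fun φ => Sheaf.H.map φ n x) ((SheafOfModules.toSheaf X.ringCatSheaf).map_comp a b)).trans
    (Sheaf.H.map_comp_apply _ _ _)

lemma hmap_id (F : X.Modules) (x : Coh.HH X F n) :
    Sheaf.H.map ((SheafOfModules.toSheaf X.ringCatSheaf).map (𝟙 F)) n x = x :=
  (congr_arg (fun φ => Sheaf.H.map φ n x) ((SheafOfModules.toSheaf X.ringCatSheaf).map_id F)).trans
    (Sheaf.H.map_id_apply _)

end Groth.Agent.CohQC
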