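import Groth.Agent.CohQC.Relative
import Groth.Agent.CohQC.HMap
import Groth.Agent.CohQC.ToSheafExact
import Groth.Agent.QC.Localisation
import Groth.Agent.QC.Closure

/-!
Cohomology of direct images along affine morphisms; acyclic quasi-coherent modules.
-/

universe u

open CategoryTheory Category Limits Opposite TopologicalSpace AlgebraicGeometry
open Groth.Agent.SiteCoh

set_option backward.isDefEq.respectTransparency false

noncomputable section

namespace Groth.Agent.CohQC

attribute [local instance] Abelian.hasFiniteBiproducts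

variable {X Y : Scheme.{u}}

/-- Cohomology over `f⁻¹ V` of a sheaf acyclic for `f_*` is cohomology over `V` of its direct image. -/
theorem hu_push_equiv (f : X ⟶ Y) (F : CohTop.Ab X.carrier)
    (hF : DirectAcyclic (Opens.grothendieckTopology Y) (Opens.map f.base) F) (V : Y.Opens) (p : ℕ) :
    Nonempty (CohSite.HU F p (f ⁻¹ᵁ V) ≃+ CohSite.HU ((CohTop.push f.base).obj F) p V) :=
  hu_compare_class (CohTop.push f.base) (U := (Opens.map f.base).obj V) (U' := V)
    (fun G => AddEquiv.refl _) (fun _ _ => rfl)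
    (DirectAcyclic (Opens.grothendieckTopology Y) (Opens.map f.base))
    (fun _ hG => directAcyclic_shortExact (Opens.map f.base) hG)
    (fun I hI q => @push_injective_acyclic _ _ f.base I hI V q)
    (fun _ hG => directAcyclic_quotient (Opens.map f.base) hG) p F hF

lemma directAcyclic_of_isAffineHom (f : X ⟶ Y) [IsAffineHom f] (M : X.Modules) [M.IsQuasicoherent] :
    DirectAcyclic (Opens.grothendieckTopology Y) (Opens.map f.base) (Coh.toAb M) :=
  fun q => locKilled_of_isAffineHom f M (Nat.le_add_left 1 q)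

theorem hu_push_affine (f : X ⟶ Y) [IsAffineHom f] (M : X.Modules) [M.IsQuasicoherent] (V : Y.Opens) (p : ℕ) :
    Nonempty (CohSite.HU (Coh.toAb M) p (f ⁻¹ᵁ V) ≃+
      CohSite.HU (Coh.toAb ((Coh.push f).obj M)) p V) :=
  hu_push_equiv f (Coh.toAb M) (directAcyclic_of_isAffineHom f M) V p

/-- Direct images along affine morphisms are acyclic where the preimage is affine. -/
theorem hu_push_vanish (f : X ⟶ Y) [IsAffineHom f] (M : X.Modules) [M.IsQuasicoherent] (V : Y.Opens)
    (hV : IsAffineOpen (f ⁻¹ᵁ V)) (p : ℕ) :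
    Subsingleton (CohSite.HU (Coh.toAb ((Coh.push f).obj M)) (p + 1) V) := by
  have := hu_vanish_of_isAffineOpen M hV p
  obtain ⟨e⟩ := hu_push_affine f M V (p + 1)
  exact e.toEquiv.symm.subsingleton

lemma isZero_of_isZero_toAb {M : X.Modules} (h : IsZero (Coh.toAb M)) : IsZero M :=
  (IsZero.iff_id_eq_zero M).mpr ((SheafOfModules.toSheaf X.ringCatSheaf).map_injective (h.eq_of_src _ _))

lemma isAffineHom_ι (hd : ∀ V W : X.Opens, IsAffineOpen V → IsAffineOpen W → IsAffineOpen (V ⊓ W))
    {U : X.Opens} (hU : IsAffineOpen U) : IsAffineHom U.ι where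
  isAffine_preimage V hV := by
    rw [← U.ι.isAffineOpen_iff_of_isOpenImmersion, Scheme.Hom.image_preimage_eq_opensRange_inf, Scheme.Opens.opensRange_ι]
    exact hd U V hU hV

lemma subsingleton_hh_biproduct {ι : Type} [Finite ι] (N : ι → X.Modules) (p : ℕ)
    (h : ∀ i, Subsingleton (Coh.HH X (N i) p)) : Subsingleton (Coh.HH X (⨁ N) p) := by
  have : Fintype ι := Fintype.ofFinite ι
  refine subsingleton_of_forall_eq 0 fun x => ?_
  let φ : (⨁ N ⟶ ⨁ N) →+ Coh.HH X (⨁ N) p :=
    AddMonoidHom.mk' (fun f => Sheaf.H.map ((SheafOfModules.toSheaf X.ringCatSheaf).map f) p x) fun a b =>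
      (congr_arg (fun g => Sheaf.H.map g p x) ((SheafOfModules.toSheaf X.ringCatSheaf).map_add (f := a) (g := b))).trans
        (Sheaf.H.map_add_apply _ _ _)
  calc x = φ (𝟙 _) := (hmap_id p _ x).symm
    _ = φ (∑ i, biproduct.π N i ≫ biproduct.ι N i) := congr_arg φ biproduct.total.symm
    _ = ∑ i, φ (biproduct.π N i ≫ biproduct.ι N i) := map_sum φ _ _
    _ = 0 := Finset.sum_eq_zero fun i _ => (hmap_comp p (biproduct.π N i) (biproduct.ι N i) x).trans
        ((congr_arg (Sheaf.H.map ((SheafOfModules.toSheaf X.ringCatSheaf).map (biproduct.ι N i)) p)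
          (@Subsingleton.elim _ (h i) _ 0)).trans (map_zero _))

/-- A quasi-coherent module embeds into an acyclic one. -/
theorem exists_mono_acyclic [CompactSpace X]
    (hd : ∀ V W : X.Opens, IsAffineOpen V → IsAffineOpen W → IsAffineOpen (V ⊓ W))
    (M : X.Modules) [M.IsQuasicoherent] :
    ∃ (M' : X.Modules) (i : M ⟶ M'), Mono i ∧ Coh.IsQCoh M' ∧
      ∀ p : ℕ, 0 < p → Subsingleton (Coh.HH X M' p) := by
  obtain ⟨ι, hι, U, hU, -, hcov⟩ := QC.exists_finite_affine_cover (X := X) (W := ⊤) (by simpa using isCompact_univ)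
  have hι' : Finite ι := Finite.of_fintype _
  let e := Fintype.equivFin ι
  let V : Fin (Fintype.card ι) → X.Opens := fun k => U (e.symm k)
  have hV : ∀ k, IsAffineOpen (V k) := fun k => hU _
  have haff : ∀ k, IsAffineHom (V k).ι := fun k => isAffineHom_ι hd (hV k)
  let N : Fin (Fintype.card ι) → X.Modules := fun k => (Coh.push (V k).ι).obj (M.restrict (V k).ι)
  have hN : ∀ k, Coh.IsQCoh (N k) := fun k => QC.isQCoh_pushforward (V k).ι
  let u : ∀ k, M ⟶ N k := fun k => (Scheme.Modules.restrictAdjunction (V k).ι).unit.app M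
  refine ⟨⨁ N, biproduct.lift u, ?_, ?_, fun p hp => subsingleton_hh_biproduct N p fun k => ?_⟩
  · refine (QC.mono_iff_app_injective _).mpr fun W s t hst => QC.section_eq_of_locally fun x hx => ?_
    obtain ⟨i, hi⟩ := hcov x trivial
    obtain ⟨k, rfl⟩ : ∃ k, e.symm k = i := e.symm.surjective i
    refine ⟨V k ⊓ W, inf_le_right, ⟨hi, hx⟩, ?_⟩
    have hk : (u k).app W s = (u k).app W t := by
      have := congr_arg ((biproduct.π N k).app W) hst
      rwa [← ConcreteCategory.comp_apply, ← Scheme.Modules.Hom.comp_app, biproduct.lift_π,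
        ← ConcreteCategory.comp_apply, ← Scheme.Modules.Hom.comp_app, biproduct.lift_π] at this
    have key : ∀ s : Γ(M, W), (u k).app W s = QC.res M ((V k).ι.image_preimage_le W) s := fun s => rfl
    rw [key, key] at hk
    have hle : V k ⊓ W ≤ (V k).ι ''ᵁ (V k).ι ⁻¹ᵁ W := by
      rw [Scheme.Hom.image_preimage_eq_opensRange_inf, Scheme.Opens.opensRange_ι]
    have := congr_arg (QC.res M hle) hk
    rwa [QC.res_res, QC.res_res] at this
  · exact QC.isQCoh_of_iso (biproduct.isoCoproduct N ≪≫
      (Sigma.whiskerEquiv (g := fun k : ULift.{u} (Fin (Fintype.card ι)) => N k.down) Equiv.ulift.symm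
        (fun _ => Iso.refl _))).symm (QC.isQCoh_colimit (Discrete.functor _) fun j => hN j.as.down)
  · obtain ⟨q, rfl⟩ : ∃ q, p = q + 1 := ⟨p - 1, by omega⟩
    have : Subsingleton (CohSite.HU (Coh.toAb (N k)) (q + 1) ⊤) :=
      have := haff k
      have := hV k
      hu_push_vanish (V k).ι (M.restrict (V k).ι) ⊤ (by
        rw [Scheme.Hom.preimage_top]
        have : IsAffine (V k).toScheme := hV k
        exact isAffineOpen_top _) q
    exact (huTerminalEquiv _ isTerminalTop _ _).toEquiv.subsingleton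

end Groth.Agent.CohQC
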