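import Groth.Agent.CohQC.Relative
import Groth.Agent.CohQC.HMap
import Groth.Agent.SiteCoh.RestrOpen

/-!
Cohomology of the restriction of a module to an open subscheme.
-/

universe u

open CategoryTheory Category Limits Opposite TopologicalSpace AlgebraicGeometry
open Groth.Agent.SiteCoh

set_option backward.isDefEq.respectTransparency false

noncomputable section

namespace Groth.Agent.CohQC

variable {X : Scheme.{u}}

/-- The abelian sheaf of a restriction is the restriction of the abelian sheaf. -/
def toAbRestrictIso (M : X.Modules) (U : X.Opens) :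
    Coh.toAb (M.restrict U.ι) ≅ CohTop.restr (X := X.carrier) (Coh.toAb M) U :=
  Iso.refl _

theorem hu_restrict (M : X.Modules) (U : X.Opens) (n : ℕ) :
    Nonempty (CohSite.HU (Coh.toAb M) n U ≃+ Coh.HH U (M.restrict U.ι) n) :=
  hu_restr (X := X.carrier) U (Coh.toAb M) n

lemma hh_subsingleton_of_iso {M N : X.Modules} (e : M ≅ N) (n : ℕ) (h : Subsingleton (Coh.HH X M n)) :
    Subsingleton (Coh.HH X N n) := by
  refine subsingleton_of_forall_eq 0 fun x => ?_
  have := hmap_comp n e.inv e.hom x
  rw [e.inv_hom_id, hmap_id] at this
  rw [this, @Subsingleton.elim _ h (Sheaf.H.map _ n x) 0, map_zero]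

end Groth.Agent.CohQC
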