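import Groth.Agent.CohQC.Affineness
import Groth.Agent.CohQC.Restrict
import Groth.Agent.QC.Coherent
import Mathlib.AlgebraicGeometry.QuasiAffine
import Mathlib.RingTheory.Finiteness.Projective

/-!
A quasi-affine scheme whose structure sheaf has no higher cohomology is affine.
-/

universe u

open CategoryTheory Category Limits Opposite TopologicalSpace AlgebraicGeometry
open Groth.Agent.SiteCoh

set_option backward.isDefEq.respectTransparency false

noncomputable section

namespace Groth.Agent.CohQC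

attribute [local instance] Abelian.hasFiniteBiproducts

variable {X : Scheme.{u}}

/-- The underlying abelian sheaf, as a functor on `X.Modules`. -/
abbrev toAbF (X : Scheme.{u}) : X.Modules ⥤ Sheaf (Opens.grothendieckTopology X) AddCommGrpCat.{u} :=
  SheafOfModules.toSheaf X.ringCatSheaf

instance toAbF_additive : (toAbF X).Additive := inferInstanceAs (SheafOfModules.toSheaf X.ringCatSheaf).Additive

instance toAbF_preservesFiniteLimits : PreservesFiniteLimits (toAbF X) :=
  inferInstanceAs (PreservesFiniteLimits (SheafOfModules.toSheaf X.ringCatSheaf))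

instance toAbF_preservesFiniteColimits : PreservesFiniteColimits (toAbF X) := toSheaf_preservesFiniteColimits _

/-- The map `O → F` of a global section. -/
def secHom {F : X.Modules} (s : Γ(F, ⊤)) : Coh.structureModule X ⟶ F :=
  (SheafOfModules.unitHomEquiv (R := X.ringCatSheaf) F).symm
    (PresheafOfModules.sectionsMk (fun W => QC.res F (le_top : W.unop ≤ ⊤) s)
      fun _ _ f => QC.res_res F f.unop.le le_top s)

lemma secHom_app_one {F : X.Modules} (s : Γ(F, ⊤)) (W : X.Opens) :
    (secHom s).app W (show Γ(Coh.structureModule X, W) from (1 : Γ(X, W))) = QC.res F (le_top : W ≤ ⊤) s :=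
  congr_arg (fun t : F.sections => (t.1 (op W) : Γ(F, W)))
    ((SheafOfModules.unitHomEquiv (R := X.ringCatSheaf) F).apply_symm_apply _)

lemma secHom_app {F : X.Modules} (s : Γ(F, ⊤)) (W : X.Opens) (t : Γ(X, W)) :
    (secHom s).app W (show Γ(Coh.structureModule X, W) from t) = t • QC.res F (le_top : W ≤ ⊤) s := by
  rw [← secHom_app_one s W, ← Scheme.Modules.Hom.app_smul]
  exact congr_arg ((secHom s).app W) (mul_one t).symm

/-- A finite free module mapping to `F` by a list of global sections. -/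
def comboTo (F : X.Modules) : List Γ(F, ⊤) → Σ G : X.Modules, (G ⟶ F)
  | [] => ⟨Coh.structureModule X, 0⟩
  | s :: l => ⟨Coh.structureModule X ⊞ (comboTo F l).1, biprod.desc (secHom s) (comboTo F l).2⟩

lemma comboTo_mem_range (F : X.Modules) : ∀ (l : List Γ(F, ⊤)) (s : Γ(F, ⊤)), s ∈ l → ∀ W : X.Opens,
    QC.res F (le_top : W ≤ ⊤) s ∈ LinearMap.range (QC.appₗ (comboTo F l).2 W)
  | [], s, h, _ => by simp at h
  | b :: l, s, h, W => by
    rcases List.mem_cons.mp h with rfl | h
    · refine ⟨(biprod.inl : _ ⟶ Coh.structureModule X ⊞ (comboTo F l).1).app W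
        (show Γ(Coh.structureModule X, W) from (1 : Γ(X, W))), ?_⟩
      change (biprod.inl ≫ biprod.desc (secHom s) (comboTo F l).2).app W _ = _
      rw [biprod.inl_desc]
      exact secHom_app_one s W
    · obtain ⟨y, hy⟩ := comboTo_mem_range F l s h W
      refine ⟨(biprod.inr : _ ⟶ Coh.structureModule X ⊞ (comboTo F l).1).app W y, ?_⟩
      change (biprod.inr ≫ biprod.desc (secHom b) (comboTo F l).2).app W y = _
      rw [biprod.inr_desc]
      exact hy

lemma seq_shortExact {S : ShortComplex X.Modules} (hS : S.ShortExact) :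
    (S.map (toAbF X)).ShortExact :=
  hS.map_of_exact (toAbF X)

lemma subsingleton_hh_middle {S : ShortComplex X.Modules} (hS : S.ShortExact) (p : ℕ)
    (hA : Subsingleton (Coh.HH X S.X₁ p)) (hB : Subsingleton (Coh.HH X S.X₃ p)) :
    Subsingleton (Coh.HH X S.X₂ p) := by
  refine subsingleton_of_forall_eq 0 fun x => ?_
  obtain ⟨y, hy⟩ := Abelian.Ext.covariant_sequence_exact₂ (constZ (Opens.grothendieckTopology X)) (seq_shortExact hS) x (@Subsingleton.elim _ hB _ _)
  rw [← hy, @Subsingleton.elim _ hA y 0, Abelian.Ext.zero_comp]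

lemma subsingleton_hh_biprod {A B : X.Modules} (p : ℕ) (hA : Subsingleton (Coh.HH X A p))
    (hB : Subsingleton (Coh.HH X B p)) : Subsingleton (Coh.HH X (A ⊞ B) p) :=
  subsingleton_hh_middle (ShortComplex.Splitting.ofHasBinaryBiproduct A B).shortExact p hA hB

/-- Sections of a biproduct. -/
def biprodSections (A B : X.Modules) (W : X.Opens) : Γ(A ⊞ B, W) ≃ₗ[Γ(X, W)] Γ(A, W) × Γ(B, W) :=
  { (QC.appₗ biprod.fst W).prod (QC.appₗ biprod.snd W) with
    invFun := fun p => (biprod.inl : A ⟶ A ⊞ B).app W p.1 + (biprod.inr : B ⟶ A ⊞ B).app W p.2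
    left_inv := fun x => by
      refine Eq.trans ?_ (congr_arg (fun f : A ⊞ B ⟶ A ⊞ B => f.app W x) (biprod.total (X := A) (Y := B)))
      rw [Scheme.Modules.Hom.add_app]
      rfl
    right_inv := fun p => by
      have h : ∀ {P Q R : X.Modules} (f : P ⟶ Q) (g : Q ⟶ R) (z : Γ(P, W)), g.app W (f.app W z) = (f ≫ g).app W z :=
        fun f g z => rfl
      refine Prod.ext ?_ ?_ <;>
        simp [h] }

variable {ι : Type u} (f : ι → Γ(X, ⊤))

/-- Quasi-coherent with finite projective sections on each member of the covering. -/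
def ProjOn (F : X.Modules) : Prop :=
  Coh.IsQCoh F ∧ ∀ i, Module.Finite Γ(X, X.basicOpen (f i)) Γ(F, X.basicOpen (f i)) ∧
    Module.Projective Γ(X, X.basicOpen (f i)) Γ(F, X.basicOpen (f i))

lemma projOn_unit : ProjOn f (Coh.structureModule X) :=
  ⟨QC.isQCoh_unit X, fun i => ⟨inferInstanceAs (Module.Finite Γ(X, X.basicOpen (f i)) Γ(X, X.basicOpen (f i))),
    inferInstanceAs (Module.Projective Γ(X, X.basicOpen (f i)) Γ(X, X.basicOpen (f i)))⟩⟩

lemma projOn_biprod {A B : X.Modules} (hA : ProjOn f A) (hB : ProjOn f B) : ProjOn f (A ⊞ B) := by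
  refine ⟨isQCoh_biprod hA.1 hB.1, fun i => ?_⟩
  have := (hA.2 i).1; have := (hA.2 i).2; have := (hB.2 i).1; have := (hB.2 i).2
  exact ⟨Module.Finite.equiv (biprodSections A B _).symm, Module.Projective.of_equiv (biprodSections A B _).symm⟩

lemma comboTo_props (h : ∀ p : ℕ, 0 < p → Subsingleton (Coh.HH X (Coh.structureModule X) p)) (F : X.Modules) :
    ∀ l : List Γ(F, ⊤), ProjOn f (comboTo F l).1 ∧ ∀ p, 0 < p → Subsingleton (Coh.HH X (comboTo F l).1 p)
  | [] => ⟨projOn_unit f, h⟩
  | _ :: l => ⟨projOn_biprod f (projOn_unit f) (comboTo_props h F l).1,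
      fun p hp => subsingleton_hh_biprod p (h p hp) ((comboTo_props h F l).2 p hp)⟩

variable (hf : ∀ i, IsAffineOpen (X.basicOpen (f i))) (hcov : ∀ x : X, ∃ i, x ∈ X.basicOpen (f i))

include hf hcov in
lemma epi_of_surjective_cover {G F : X.Modules} (hG : Coh.IsQCoh G) (hF : Coh.IsQCoh F) (φ : G ⟶ F)
    (h : ∀ i, Function.Surjective (φ.app (X.basicOpen (f i)))) : Epi φ := by
  have hC : Coh.IsQCoh (cokernel φ) := QC.isQCoh_cokernel hG hF φ
  have h0 : ∀ i (c : Γ(cokernel φ, X.basicOpen (f i))), c = 0 := fun i c => by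
    obtain ⟨t, rfl⟩ := QC.app_surjective_of_epi (hf i) hF hC (cokernel.π φ) c
    obtain ⟨s, rfl⟩ := h i t
    change (φ ≫ cokernel.π φ).app _ s = 0
    rw [cokernel.condition]
    rfl
  have hz : ∀ (W : X.Opens) (c : Γ(cokernel φ, W)), c = 0 := fun W c =>
    QC.section_eq_of_locally fun x hx => by
      obtain ⟨i, hi⟩ := hcov x
      obtain ⟨g, hg, hxg⟩ := (hf i).exists_basicOpen_le (V := W) ⟨x, hx⟩ hi
      refine ⟨X.basicOpen g, hg, hxg, ?_⟩
      have := (QC.isLoc_of_isQCoh (hf i) (hM := hC)).exists_extend g (QC.res _ hg c)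
      obtain ⟨n, s, hs⟩ := this
      rw [h0 i s, map_zero] at hs
      rw [map_zero]
      have hu : IsUnit (QC.resO X (X.basicOpen_le g) g ^ n : Γ(X, X.basicOpen g)) :=
        (RingedSpace.isUnit_res_basicOpen X.toRingedSpace g).pow n
      exact hu.smul_eq_zero.mp hs.symm
  refine Abelian.epi_of_cokernel_π_eq_zero _ (Scheme.Modules.hom_ext _ _ fun W => ?_)
  ext t
  exact hz W _

variable [CompactSpace X] [QuasiSeparatedSpace X] [Finite ι]

include hf hcov in
lemma exists_cover_seq (h : ∀ p : ℕ, 0 < p → Subsingleton (Coh.HH X (Coh.structureModule X) p))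
    {F : X.Modules} (hF : ProjOn f F) :
    ∃ (G : X.Modules) (φ : G ⟶ F), Epi φ ∧ ProjOn f G ∧ ∀ p, 0 < p → Subsingleton (Coh.HH X G p) := by
  classical
  have : Fintype ι := Fintype.ofFinite ι
  have : F.IsQuasicoherent := hF.1
  have hg : ∀ i, ∃ S : Finset Γ(F, X.basicOpen (f i)),
      Submodule.span Γ(X, X.basicOpen (f i)) (S : Set Γ(F, X.basicOpen (f i))) = ⊤ := fun i => (hF.2 i).1.1
  choose S hS using hg
  have hext : ∀ (i : ι) (t : Γ(F, X.basicOpen (f i))), ∃ s : Γ(F, ⊤), ∃ n : ℕ,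
      QC.res F (X.basicOpen_le (f i)) s = QC.resO X (X.basicOpen_le (f i)) (f i) ^ n • t := fun i t => by
    obtain ⟨n, s, hs⟩ := QC.exists_pow_smul_extends_of_isCompact (M := F) (W := ⊤) (by simpa using isCompact_univ)
      (by simpa using isQuasiSeparated_univ) (f i) t
    exact ⟨s, n, hs⟩
  choose e n he using hext
  let l : List Γ(F, ⊤) := (Finset.univ : Finset ι).toList.flatMap fun i => (S i).toList.map (e i)
  refine ⟨(comboTo F l).1, (comboTo F l).2, epi_of_surjective_cover f hf hcov (comboTo_props f h F l).1.1 hF.1 _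
    fun i => ?_, comboTo_props f h F l⟩
  have : LinearMap.range (QC.appₗ (comboTo F l).2 (X.basicOpen (f i))) = ⊤ := by
    rw [← top_le_iff, ← hS i, Submodule.span_le]
    intro t ht
    have hu : IsUnit (QC.resO X (X.basicOpen_le (f i)) (f i) ^ n i t : Γ(X, X.basicOpen (f i))) :=
      (RingedSpace.isUnit_res_basicOpen X.toRingedSpace (f i)).pow (n i t)
    rw [SetLike.mem_coe, ← Submodule.smul_mem_iff_of_isUnit _ hu]
    change QC.resO X (X.basicOpen_le (f i)) (f i) ^ n i t • t ∈ _
    rw [← he i t]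
    exact comboTo_mem_range F l _ (List.mem_flatMap.mpr ⟨i, Finset.mem_toList.mpr (Finset.mem_univ i),
      List.mem_map.mpr ⟨t, Finset.mem_toList.mpr ht, rfl⟩⟩) _
  exact fun t => (this.ge Submodule.mem_top : t ∈ LinearMap.range (QC.appₗ (comboTo F l).2 (X.basicOpen (f i))))

include hf in
omit [CompactSpace X] [QuasiSeparatedSpace X] [Finite ι] in
lemma projOn_kernel {G F : X.Modules} (hG : ProjOn f G) (hF : ProjOn f F) (φ : G ⟶ F) [Epi φ] :
    ProjOn f (kernel φ) := by
  refine ⟨QC.isQCoh_kernel hG.1 hF.1 φ, fun i => ?_⟩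
  have := (hG.2 i).1; have := (hG.2 i).2; have := (hF.2 i).2
  let W := X.basicOpen (f i)
  let ι' := QC.appₗ (kernel.ι φ) W
  have hι : Function.Injective ι' := QC.app_injective_of_mono (kernel.ι φ) W
  have hφ : Function.Surjective (QC.appₗ φ W) := QC.app_surjective_of_epi (hf i) hG.1 hF.1 φ
  have hex : Function.Exact ι' (QC.appₗ φ W) := fun t => (QC.mem_range_kernel_app φ W t).symm
  obtain ⟨σ, hσ⟩ := Module.projective_lifting_property (QC.appₗ φ W) LinearMap.id hφ
  obtain ⟨r, hr⟩ : ∃ r, r ∘ₗ ι' = LinearMap.id := by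
    obtain ⟨e, he₁, he₂⟩ := hex.splitSurjectiveEquiv hι ⟨σ, hσ⟩
    exact ⟨LinearMap.fst _ _ _ ∘ₗ e.toLinearMap, by
      apply LinearMap.ext
      intro z
      have := congr_arg e (LinearMap.congr_fun he₁ z)
      simp at this ⊢
      rw [this]⟩
  exact ⟨Module.Finite.of_surjective r fun z => ⟨ι' z, LinearMap.congr_fun hr z⟩,
    Module.Projective.of_split ι' r hr⟩

omit [CompactSpace X] [QuasiSeparatedSpace X] [Finite ι] in
lemma kerSeq_shortExact {G F : X.Modules} (φ : G ⟶ F) [Epi φ] :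
    (ShortComplex.mk (kernel.ι φ) φ (kernel.condition φ)).ShortExact :=
  { exact := ShortComplex.exact_of_f_is_kernel (ShortComplex.mk (kernel.ι φ) φ (kernel.condition φ))
      (kernelIsKernel φ) }

include hf hcov in
theorem subsingleton_hh_of_projOn (h : ∀ p : ℕ, 0 < p → Subsingleton (Coh.HH X (Coh.structureModule X) p))
    (d : ℕ) (hd : ∀ (M : X.Modules), Coh.IsQCoh M → ∀ p : ℕ, d ≤ p → Subsingleton (Coh.HH X M p)) :
    ∀ (k : ℕ) (p : ℕ), 0 < p → d ≤ p + k → ∀ F : X.Modules, ProjOn f F → Subsingleton (Coh.HH X F p) := by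
  intro k
  induction k with
  | zero => exact fun p _ hp F hF => hd F hF.1 p hp
  | succ k ih =>
    intro p hp hpk F hF
    obtain ⟨G, φ, hφ, hG, hG0⟩ := exists_cover_seq f hf hcov h hF
    have := hG0 p hp
    have := ih (p + 1) (by omega) (by omega) _ (projOn_kernel f hf hG hF φ)
    refine subsingleton_of_forall_eq 0 fun x => ?_
    obtain ⟨y, rfl⟩ := Abelian.Ext.covariant_sequence_exact₃ (constZ (Opens.grothendieckTopology X)) (seq_shortExact (kerSeq_shortExact φ)) x rfl (@Subsingleton.elim _ this _ _)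
    rw [@Subsingleton.elim _ (hG0 p hp) y 0, Abelian.Ext.zero_comp]

omit ι in
theorem isAffine_of_isQuasiAffine {X : Scheme.{u}} [QuasiSeparatedSpace X] [X.IsQuasiAffine]
    (h : ∀ p : ℕ, 0 < p → Subsingleton (Coh.HH X (Coh.structureModule X) p)) : IsAffine X := by
  classical
  have hpt : ∀ x : X, ∃ r : Γ(X, ⊤), IsAffineOpen (X.basicOpen r) ∧ x ∈ X.basicOpen r := fun x => by
    obtain ⟨_, ⟨_, ⟨r, hr, rfl⟩, rfl⟩, hxr, -⟩ :=
      (Scheme.IsQuasiAffine.isBasis_basicOpen X).exists_subset_of_mem_open (Set.mem_univ x) isOpen_univ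
    exact ⟨r, hr, hxr⟩
  choose r hr hxr using hpt
  obtain ⟨s, hs⟩ := isCompact_univ.elim_finite_subcover (fun x => (X.basicOpen (r x) : Set X))
    (fun x => (X.basicOpen (r x)).2) (fun y _ => Set.mem_iUnion.mpr ⟨y, hxr y⟩)
  let g : {x // x ∈ s} → Γ(X, ⊤) := fun x => r x.1
  have hcov : ∀ x : X, ∃ i, x ∈ X.basicOpen (g i) := fun x => by
    obtain ⟨y, hy, hxy⟩ := Set.mem_iUnion₂.mp (hs (Set.mem_univ x))
    exact ⟨⟨y, hy⟩, hxy⟩
  obtain ⟨d, hd⟩ := exists_bound (X := X) ⊤ (by simpa using isQuasiSeparated_univ) ⊤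
    (by simpa using isCompact_univ) le_rfl
  have hd' : ∀ (M : X.Modules), Coh.IsQCoh M → ∀ p : ℕ, d ≤ p → Subsingleton (Coh.HH X M p) := fun M hM p hp => by
    have := hd M hM p hp 1
    rw [X.basicOpen_of_isUnit isUnit_one] at this
    exact (huTerminalEquiv _ isTerminalTop _ _).toEquiv.subsingleton
  let l := s.toList.map r
  have hsurj : ∀ i : {x // x ∈ s}, Function.Surjective ((combo l).2.app (X.basicOpen (g i))) := fun i =>
    combo_loc l (g i) (List.mem_map.mpr ⟨i.1, Finset.mem_toList.mpr i.2, rfl⟩) _ le_rfl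
  have hP : ∀ l' : List Γ(X, ⊤), ProjOn g (combo l').1 := by
    intro l'
    induction l' with
    | nil => exact projOn_unit g
    | cons a l' ih => exact projOn_biprod g (projOn_unit g) ih
  have : Epi (combo l).2 := epi_of_surjective_cover g (fun i => hr _) hcov (combo_qcoh l) (QC.isQCoh_unit X) _ hsurj
  obtain ⟨y, hy⟩ := sections_surjective_top (seq_shortExact (kerSeq_shortExact (combo l).2))
    (subsingleton_hh_of_projOn g (fun i => hr _) hcov h d hd' d 1 one_pos (by omega) _
      (projOn_kernel g (fun i => hr _) (hP l) (projOn_unit g) (combo l).2))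
    (show Γ(Coh.structureModule X, ⊤) from (1 : Γ(X, ⊤)))
  refine isAffine_of_isAffineOpen_basicOpen {b | b ∈ l} ((Ideal.eq_top_iff_one _).mpr ?_) fun b hb => ?_
  · have e : ∀ z : Γ(X, ⊤), z ∈ Ideal.span {b | b ∈ l} → z = 1 → (1 : Γ(X, ⊤)) ∈ Ideal.span {b | b ∈ l} :=
      fun z hz e => e ▸ hz
    exact e _ (combo_mem_span l y) hy
  · obtain ⟨x, -, rfl⟩ := List.mem_map.mp hb
    exact hr x

end Groth.Agent.CohQC
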