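import Groth.Agent.CohQC.Bound
import Groth.Agent.SiteCoh.DirectTop
import Groth.Agent.SiteCoh.Terminal
import Groth.Agent.SiteCoh.Compare

/-!
Higher direct images of quasi-coherent modules: vanishing from vanishing over a basis; Čech comparison.
-/

universe u

open CategoryTheory Category Limits Opposite TopologicalSpace AlgebraicGeometry Abelian
open Groth.Agent.SiteCoh

set_option backward.isDefEq.respectTransparency false

noncomputable section

namespace Groth.Agent.CohQC

lemma locKilled_of_basis {X Y : TopCat.{u}} (f : X ⟶ Y) (F : CohTop.Ab X) (n : ℕ) (B : Set (Opens Y))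
    (hB : ∀ (V : Opens Y), ∀ y ∈ V, ∃ W ∈ B, y ∈ W ∧ W ≤ V)
    (h : ∀ W ∈ B, Subsingleton (CohSite.HU F n ((Opens.map f).obj W))) :
    LocKilled (Opens.grothendieckTopology Y) (Opens.map f) F n := by
  intro V ξ
  let T : Sieve V :=
    { arrows := fun W g =>
        (Ext.mk₀ (CohCx.freeSheafMap (Opens.grothendieckTopology X) ((Opens.map f).map g))).comp ξ (zero_add n) = 0
      downward_closed := fun {W W'} g h k => by
        rw [Functor.map_comp]
        have he : CohCx.freeSheafMap (Opens.grothendieckTopology X) ((Opens.map f).map k ≫ (Opens.map f).map g) =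
            CohCx.freeSheafMap (Opens.grothendieckTopology X) ((Opens.map f).map k) ≫
              CohCx.freeSheafMap (Opens.grothendieckTopology X) ((Opens.map f).map g) := by
          simp only [CohCx.freeSheafMap, Functor.map_comp, Functor.whiskerRight_comp]
        rw [he, ← Ext.mk₀_comp_mk₀, Ext.comp_assoc _ _ _ (zero_add 0) (zero_add _) (by omega), h, Ext.comp_zero] }
  refine ⟨T, fun y hy => ?_, fun W g hg => hg⟩
  obtain ⟨W, hWB, hyW, hWV⟩ := hB V y hy
  have : Subsingleton (Ext (CohCx.freeSheaf (Opens.grothendieckTopology X) ((Opens.map f).obj W)) F n) := h W hWB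
  exact ⟨W, homOfLE hWV, Subsingleton.elim _ _, hyW⟩

variable {X S : Scheme.{u}}

lemma exists_affine_le (V : S.Opens) (y : S) (hy : y ∈ V) :
    ∃ W : S.Opens, IsAffineOpen W ∧ y ∈ W ∧ W ≤ V := by
  obtain ⟨_, ⟨W : S.Opens, hW : IsAffineOpen W, rfl⟩, hyW, hWV⟩ :=
    S.isBasis_affineOpens.exists_subset_of_mem_open hy V.2
  exact ⟨W, hW, hyW, hWV⟩

lemma locKilled_of_isAffineHom (f : X ⟶ S) [IsAffineHom f] (M : X.Modules) [M.IsQuasicoherent]
    {n : ℕ} (hn : 1 ≤ n) :
    LocKilled (Opens.grothendieckTopology S) (Opens.map f.base) (Coh.toAb M) n :=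
  locKilled_of_basis f.base (Coh.toAb M) n {W | IsAffineOpen (X := S) W}
    (fun V y hy => exists_affine_le V y hy)
    (fun W hW => isAffineOpen_hu_vanish M (hW.preimage f) hn)

/-- A uniform bound for higher direct images over a quasi-compact base. -/
theorem exists_locKilled_bound (f : X ⟶ S) [QuasiCompact f] [QuasiSeparated f] [CompactSpace S] :
    ∃ n : ℕ, ∀ (M : X.Modules), Coh.IsQCoh M → ∀ p : ℕ, n ≤ p →
      LocKilled (Opens.grothendieckTopology S) (Opens.map f.base) (Coh.toAb M) p := by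
  obtain ⟨s, hs, e⟩ := (isCompact_iff_finite_and_eq_biUnion_affineOpens (X := S) (U := ⊤)).mp (by simpa using isCompact_univ)
  have := hs.fintype
  choose d hd using fun W : s => exists_bound (f ⁻¹ᵁ W.1.1) (f.isQuasiSeparated_preimage W.1.2.isQuasiSeparated)
    (f ⁻¹ᵁ W.1.1) (f.isCompact_preimage W.1.2.isCompact) le_rfl
  refine ⟨Finset.univ.sup d, fun M hM p hp => locKilled_of_basis f.base (Coh.toAb M) p
    {B | ∃ (W : s) (g : Γ(S, W.1.1)), S.basicOpen g = B} (fun V y hy => ?_) ?_⟩
  · obtain ⟨W, hW, hyW⟩ : ∃ W : S.affineOpens, ∃ _ : W ∈ s, y ∈ W.1 := by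
      have : y ∈ (⊤ : S.Opens) := trivial
      rw [e] at this
      simpa [Opens.mem_iSup] using this
    obtain ⟨g, hg, hyg⟩ := W.2.exists_basicOpen_le (V := V) ⟨y, hy⟩ hyW
    exact ⟨_, ⟨⟨W, hW⟩, g, rfl⟩, hyg, hg⟩
  · rintro _ ⟨W, g, rfl⟩
    change Subsingleton (CohSite.HU (Coh.toAb M) p (f ⁻¹ᵁ S.basicOpen g))
    rw [Scheme.preimage_basicOpen]
    exact hd W M hM p ((Finset.le_sup (Finset.mem_univ W)).trans hp) _

theorem hu_affine_cover_vanish (M : X.Modules) [M.IsQuasicoherent] (t : ℕ) (U : Fin t → X.Opens)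
    (hU : ∀ i, IsAffineOpen (U i))
    (hd : ∀ V W : X.Opens, IsAffineOpen V → IsAffineOpen W → IsAffineOpen (V ⊓ W))
    (n : ℕ) (hn : t ≤ n) : Subsingleton (CohSite.HU (Coh.toAb M) n (⨆ i, U i)) :=
  hu_iSup_vanish (Coh.toAb M) {W : X.Opens | IsAffineOpen W} (fun V hV W hW => hd V W hV hW)
    (fun _ hV q => hu_vanish_of_isAffineOpen M hV q) t U hU n hn

/-- The Čech complex of an affine covering with affine intersections computes cohomology. -/
theorem cech_equiv_affine (M : X.Modules) [M.IsQuasicoherent] {ι : Type u} (U : ι → X.Opens)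
    (hU : ∀ (n : ℕ) (a : Fin (n + 1) → ι), IsAffineOpen (⨅ k, U (a k))) (p : ℕ) :
    Nonempty ((cechCx U (res' (𝟭 X.Opens) (Coh.toAb M))).homology p ≃+
      CohSite.HU (Coh.toAb M) p (iSup U)) :=
  cech_equiv (Y := U) (opensData U)
    (fun I hI n => have := hI; cechExact_sheaf_injective (Opens.grothendieckTopology X) I U n) p (Coh.toAb M)
    fun n a q => hu_vanish_of_isAffineOpen M (by
      change IsAffineOpen (tupleProd U a)
      rw [tupleProd_eq_iInf]
      exact hU n a) q

end Groth.Agent.CohQC
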