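import Groth.Agent.SiteCoh.AcyclicCx
import Groth.Agent.SiteCoh.Derived

/-!
An acyclic resolution computes the cohomology presheaves, hence higher direct images.
-/

universe u

open CategoryTheory Category Limits Opposite Abelian
open Groth.Agent.SiteCoh

namespace Groth.Agent.CohQC

variable {C : Type u} [SmallCategory C] {J : GrothendieckTopology C}
  (K : CochainComplex (Sheaf J AddCommGrpCat.{u}) ℕ)

/-- The sequence of consecutive cycles. -/
noncomputable abbrev seqC (k : ℕ) : ShortComplex (Sheaf J AddCommGrpCat.{u}) :=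
  ShortComplex.mk (K.iCycles k) (K.toCycles k (k + 1)) (by
    rw [← cancel_mono (K.iCycles (k + 1)), Category.assoc, HomologicalComplex.toCycles_i,
      HomologicalComplex.iCycles_d, zero_comp])

variable (hex : ∀ n, K.ExactAt (n + 1))

include hex in
lemma seqC_shortExact (k : ℕ) : (seqC K k).ShortExact := by
  have : Epi (seqC K k).g := Preadditive.epi_of_isZero_cokernel _
    ((HomologicalComplex.ExactAt.isZero_homology (hex k)).of_iso
      (IsColimit.coconePointUniqueUpToIso (cokernelIsCokernel _) (K.homologyIsCokernel k (k + 1) (by simp))))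
  exact { exact := ShortComplex.exact_of_f_is_kernel _ (KernelFork.IsLimit.ofι' _ _ fun {W} g hg =>
    ⟨K.liftCycles g (k + 1) (by simp) (by
        rw [← HomologicalComplex.toCycles_i, ← Category.assoc]
        exact (congr_arg (· ≫ K.iCycles (k + 1)) hg).trans zero_comp),
      K.liftCycles_i _ _ _ _⟩) }

/-- The iterated extension class of a resolution. -/
noncomputable def eClass : ∀ k : ℕ, Ext (K.cycles k) (K.cycles 0) k
  | 0 => Ext.mk₀ (𝟙 _)
  | k + 1 => (seqC_shortExact K hex k).extClass.comp (eClass k) (Nat.add_comm 1 k)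

variable (hK : ∀ (U : C) (n : ℕ), Acyc U (K.X n))

include hK in
lemma eClass_bijective (U : C) : ∀ (k m N : ℕ) (h : m + 1 + k = N), Function.Bijective
    (fun x : Ext (CohCx.freeSheaf J U) (K.cycles k) (m + 1) => x.comp (eClass K hex k) h)
  | 0, m, N, h => by
    obtain rfl : N = m + 1 := by omega
    have e : ∀ x : Ext (CohCx.freeSheaf J U) (K.cycles 0) (m + 1), x.comp (eClass K hex 0) h = x :=
      fun x => Ext.comp_mk₀_id x
    rw [funext e]
    exact Function.bijective_id
  | k + 1, m, N, h => by
    have h₁ : Subsingleton (Ext (CohCx.freeSheaf J U) (seqC K k).X₂ (m + 1)) := hK U k m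
    have h₂ : Subsingleton (Ext (CohCx.freeSheaf J U) (seqC K k).X₂ (m + 1 + 1)) := hK U k (m + 1)
    let σ := Groth.Agent.SiteCoh.shiftEquiv (seqC_shortExact K hex k) (CohCx.freeSheaf J U) (m + 1)
    have e : ∀ x : Ext (CohCx.freeSheaf J U) (K.cycles (k + 1)) (m + 1),
        x.comp (eClass K hex (k + 1)) h = (σ x).comp (eClass K hex k) (show m + 1 + 1 + k = N by omega) := fun x =>
      (Ext.comp_assoc x (seqC_shortExact K hex k).extClass (eClass K hex k) rfl (Nat.add_comm 1 k)
        (by omega)).symm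
    rw [funext e]
    exact (eClass_bijective U k (m + 1) N (by omega)).comp σ.bijective

/-- The class of a section of cycles. -/
noncomputable def clsAt (n : ℕ) (U : C) : (K.cycles n).obj.obj (op U) →+ Ext (CohCx.freeSheaf J U) (K.cycles 0) n :=
  AddMonoidHom.mk' (fun z => (Ext.mk₀ ((secEquiv U (K.cycles n)).symm z)).comp (eClass K hex n) (zero_add n))
    fun a b => by rw [map_add, Ext.mk₀_add, Ext.add_comp]

lemma clsAt_toCycles (n : ℕ) (U : C) (x : (K.X n).obj.obj (op U)) :
    clsAt K hex (n + 1) U ((K.toCycles n (n + 1)).hom.app (op U) x) = 0 := by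
  have : (secEquiv U (K.cycles (n + 1))).symm ((K.toCycles n (n + 1)).hom.app (op U) x) =
      (secEquiv U (K.X n)).symm x ≫ K.toCycles n (n + 1) :=
    (secEquiv U _).symm_apply_eq.mpr (((congr_arg _ ((secEquiv U _).apply_symm_apply x)).symm).trans
      (secEquiv_comp _ _).symm)
  change (Ext.mk₀ _).comp _ (zero_add (n + 1)) = 0
  rw [this, ← Ext.mk₀_comp_mk₀, eClass]
  rw [Ext.comp_assoc (Ext.mk₀ ((secEquiv U (K.X n)).symm x)) (Ext.mk₀ (K.toCycles n (n + 1))) _ (zero_add 0)
      (zero_add (n + 1)) (show 0 + 0 + (n + 1) = n + 1 by omega),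
    ← Ext.comp_assoc (Ext.mk₀ (K.toCycles n (n + 1))) _ _ (zero_add 1) (Nat.add_comm 1 n) (by omega),
    show (Ext.mk₀ (K.toCycles n (n + 1))).comp (seqC_shortExact K hex n).extClass (zero_add 1) = 0 from
      (seqC_shortExact K hex n).comp_extClass, Ext.zero_comp, Ext.comp_zero]

include hK in
lemma clsAt_eq_zero (n : ℕ) (U : C) (z : (K.cycles (n + 1)).obj.obj (op U)) (hz : clsAt K hex (n + 1) U z = 0) :
    ∃ x, (K.toCycles n (n + 1)).hom.app (op U) x = z := by
  let φ := (secEquiv U (K.cycles (n + 1))).symm z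
  have h1 : ((Ext.mk₀ φ).comp (seqC_shortExact K hex n).extClass (zero_add 1)).comp (eClass K hex n)
      (Nat.add_comm 1 n) = 0 :=
    (Ext.comp_assoc (Ext.mk₀ φ) (seqC_shortExact K hex n).extClass (eClass K hex n) (zero_add 1)
      (Nat.add_comm 1 n) (show 0 + 1 + n = n + 1 by omega)).trans hz
  have h2 : (Ext.mk₀ φ).comp (seqC_shortExact K hex n).extClass (zero_add 1) = 0 :=
    (eClass_bijective K hex hK U n 0 (n + 1) (by omega)).1 (h1.trans (Ext.zero_comp _ _ _ _ _).symm)
  obtain ⟨x, hx⟩ := Ext.covariant_sequence_exact₃ (CohCx.freeSheaf J U) (seqC_shortExact K hex n) (Ext.mk₀ φ)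
    (zero_add 1) h2
  obtain ⟨ψ, rfl⟩ := (Ext.mk₀_bijective _ _).2 x
  rw [Ext.mk₀_comp_mk₀] at hx
  refine ⟨secEquiv U _ ψ, ((secEquiv_comp ψ (K.toCycles n (n + 1))).symm.trans ?_)⟩
  exact (congr_arg (secEquiv U _) ((Ext.mk₀_bijective _ _).1 hx)).trans ((secEquiv U _).apply_symm_apply z)

include hK in
lemma clsAt_surjective : ∀ (n : ℕ) (U : C), Function.Surjective (clsAt K hex n U)
  | 0, U => fun x => by
    obtain ⟨φ, rfl⟩ := (Ext.mk₀_bijective _ _).2 x
    exact ⟨secEquiv U _ φ, (congr_arg (fun ψ => (Ext.mk₀ ψ).comp (eClass K hex 0) (zero_add 0))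
      ((secEquiv U _).symm_apply_apply φ)).trans (Ext.comp_mk₀_id _)⟩
  | n + 1, U => fun x => by
    obtain ⟨y, hy⟩ : ∃ y : Ext (CohCx.freeSheaf J U) (K.cycles n) 1,
        y.comp (eClass K hex n) (Nat.add_comm 1 n) = x :=
      (eClass_bijective K hex hK U n 0 (n + 1) (by omega)).2 x
    have : Subsingleton (Ext (CohCx.freeSheaf J U) (seqC K n).X₂ 1) := hK U n 0
    obtain ⟨w, rfl⟩ := Ext.covariant_sequence_exact₁ (CohCx.freeSheaf J U) (seqC_shortExact K hex n) y
      (Subsingleton.elim _ _) (zero_add 1)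
    obtain ⟨φ, rfl⟩ := (Ext.mk₀_bijective _ _).2 w
    refine ⟨secEquiv U _ φ, Eq.trans ?_ hy⟩
    change (Ext.mk₀ _).comp _ (zero_add (n + 1)) = _
    rw [AddEquiv.symm_apply_apply, Ext.comp_assoc _ _ _ (zero_add 1) (Nat.add_comm 1 n) (by omega)]
    rfl

lemma clsAt_map (n : ℕ) {U V : Cᵒᵖ} (a : U ⟶ V) (z : (K.cycles n).obj.obj U) :
    clsAt K hex n V.unop ((K.cycles n).obj.map a z) =
      (Ext.mk₀ (CohCx.freeSheafMap J a.unop)).comp (clsAt K hex n U.unop z) (zero_add n) := by
  change (Ext.mk₀ _).comp _ (zero_add n) = (Ext.mk₀ _).comp ((Ext.mk₀ _).comp _ (zero_add n)) (zero_add n)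
  rw [← Ext.comp_assoc _ _ _ (zero_add 0) (zero_add n) (by omega), Ext.mk₀_comp_mk₀]
  refine congr_arg (fun φ => (Ext.mk₀ φ).comp (eClass K hex n) (zero_add n)) ((secEquiv V.unop _).injective ?_)
  exact ((secEquiv V.unop _).apply_symm_apply _).trans
    ((secEquiv_freeSheafMap _ _).trans (congr_arg _ ((secEquiv U.unop _).apply_symm_apply z))).symm

/-- The presheaf complex underlying `K`. -/
noncomputable abbrev preK : CochainComplex (Cᵒᵖ ⥤ AddCommGrpCat.{u}) ℕ :=
  ((sheafToPresheaf J AddCommGrpCat.{u}).mapHomologicalComplex _).obj K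

/-- Cycles of sheaves are cycles of presheaves. -/
noncomputable def toPreCycles (n : ℕ) : (K.cycles n).obj ⟶ (preK K).cycles n :=
  (preK K).liftCycles ((sheafToPresheaf J AddCommGrpCat.{u}).map (K.iCycles n)) (n + 1) (by simp)
    (by
      change (sheafToPresheaf J AddCommGrpCat.{u}).map (K.iCycles n) ≫
        (sheafToPresheaf J AddCommGrpCat.{u}).map (K.d n (n + 1)) = 0
      rw [← Functor.map_comp, HomologicalComplex.iCycles_d, Functor.map_zero])

lemma toPreCycles_i (n : ℕ) :
    toPreCycles K n ≫ (preK K).iCycles n = (sheafToPresheaf J AddCommGrpCat.{u}).map (K.iCycles n) :=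
  (preK K).liftCycles_i _ _ _ _

instance isIso_toPreCycles (n : ℕ) : IsIso (toPreCycles K n) := by
  have : ∀ U, IsIso ((toPreCycles K n).app U) := fun U => by
    have hi : Function.Injective ((K.iCycles n).hom.app U) := by
      have : Mono (K.iCycles n).hom := inferInstanceAs (Mono ((sheafToPresheaf _ _).map (K.iCycles n)))
      exact (AddCommGrpCat.mono_iff_injective _).mp inferInstance
    have hp : Function.Injective (((preK K).iCycles n).app U) :=
      (AddCommGrpCat.mono_iff_injective _).mp inferInstance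
    have e : ∀ z, ((preK K).iCycles n).app U ((toPreCycles K n).app U z) = (K.iCycles n).hom.app U z :=
      fun z => ConcreteCategory.congr_hom (NatTrans.congr_app (toPreCycles_i K n) U) z
    refine (ConcreteCategory.isIso_iff_bijective _).mpr ⟨fun a b h => hi ?_, fun z => ?_⟩
    · exact ((e a).symm.trans (congr_arg _ h)).trans (e b)
    · obtain ⟨c, hc⟩ := exists_cycle_section (U := U.unop) K n (((preK K).iCycles n).app U z)
        (ConcreteCategory.congr_hom (NatTrans.congr_app ((preK K).iCycles_d n (n + 1)) U) z)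
      exact ⟨c, hp ((e c).trans hc)⟩
  exact NatIso.isIso_of_isIso_app _

lemma toCycles_toPreCycles (i n : ℕ) :
    (sheafToPresheaf J AddCommGrpCat.{u}).map (K.toCycles i n) ≫ toPreCycles K n = (preK K).toCycles i n := by
  rw [← cancel_mono ((preK K).iCycles n)]
  exact (Category.assoc _ _ _).trans ((congr_arg _ (toPreCycles_i K n)).trans
    ((((sheafToPresheaf J AddCommGrpCat.{u}).map_comp _ _).symm.trans
      (congr_arg (sheafToPresheaf J AddCommGrpCat.{u}).map (K.toCycles_i i n))).trans
        ((preK K).toCycles_i i n).symm))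

/-- Classes of sections of cycles, naturally. -/
noncomputable def clsMap (n : ℕ) : (K.cycles n).obj ⟶ hPre (K.cycles 0) n where
  app U := AddCommGrpCat.ofHom (clsAt K hex n U.unop)
  naturality U V a := by
    ext z
    exact clsAt_map K hex n a z

lemma toCycles_clsMap (i n : ℕ) :
    (preK K).toCycles i n ≫ inv (toPreCycles K n) ≫ clsMap K hex n = 0 := by
  rw [← toCycles_toPreCycles]
  refine (Category.assoc _ _ _).trans ((congr_arg _ (IsIso.hom_inv_id_assoc (toPreCycles K n) _)).trans ?_)
  by_cases hi : i + 1 = n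
  · subst hi
    ext U x
    exact clsAt_toCycles K hex i U.unop x
  · rw [show K.toCycles i n = 0 by
      rw [← cancel_mono (K.iCycles n), HomologicalComplex.toCycles_i, zero_comp]
      exact K.shape _ _ hi, Functor.map_zero]
    exact zero_comp

/-- Homology of the presheaf complex maps to the cohomology presheaf. -/
noncomputable def homologyToHPre (n : ℕ) : (preK K).homology n ⟶ hPre (K.cycles 0) n :=
  ((preK K).homologyIsCokernel ((ComplexShape.up ℕ).prev n) n rfl).desc
    (CokernelCofork.ofπ (inv (toPreCycles K n) ≫ clsMap K hex n) (toCycles_clsMap K hex _ n))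

include hK in
lemma isIso_homologyToHPre (n : ℕ) : IsIso (homologyToHPre K hex n) := by
  have hfac : (preK K).homologyπ n ≫ homologyToHPre K hex n = inv (toPreCycles K n) ≫ clsMap K hex n :=
    ((preK K).homologyIsCokernel ((ComplexShape.up ℕ).prev n) n rfl).fac _ WalkingParallelPair.one
  have : ∀ U, IsIso ((homologyToHPre K hex n).app U) := fun U => by
    have hπ : Function.Surjective (((preK K).homologyπ n).app U) :=
      (AddCommGrpCat.epi_iff_surjective _).mp inferInstance
    have key : ∀ z, (homologyToHPre K hex n).app U (((preK K).homologyπ n).app U ((toPreCycles K n).app U z)) =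
        clsAt K hex n U.unop z := fun z => by
      refine (ConcreteCategory.congr_hom (NatTrans.congr_app hfac U) _).trans ?_
      exact congr_arg (clsAt K hex n U.unop)
        (ConcreteCategory.congr_hom (NatTrans.congr_app (IsIso.hom_inv_id (toPreCycles K n)) U) z)
    have hθ : Function.Surjective ((toPreCycles K n).app U) :=
      ((ConcreteCategory.isIso_iff_bijective _).mp inferInstance).2
    refine (ConcreteCategory.isIso_iff_bijective _).mpr ⟨(injective_iff_map_eq_zero _).mpr fun y hy => ?_, fun x => ?_⟩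
    · obtain ⟨z, rfl⟩ := hπ y
      obtain ⟨z, rfl⟩ := hθ z
      rw [key] at hy
      rcases n with _ | p
      · have h0 : (secEquiv U.unop (K.cycles 0)).symm z = 0 :=
          (Ext.mk₀_bijective _ _).1 (((Ext.comp_mk₀_id _).symm.trans hy).trans (Ext.mk₀_zero _ _).symm)
        have : z = 0 := (secEquiv U.unop (K.cycles 0)).symm.injective (h0.trans (map_zero _).symm)
        subst this
        exact (congr_arg _ (map_zero ((toPreCycles K 0).app U).hom)).trans (map_zero _)
      · obtain ⟨x, rfl⟩ := clsAt_eq_zero K hex hK p U.unop z hy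
        refine (congr_arg _ (ConcreteCategory.congr_hom (NatTrans.congr_app (toCycles_toPreCycles K p (p + 1)) U) x)).trans ?_
        exact ConcreteCategory.congr_hom
          (NatTrans.congr_app ((preK K).toCycles_comp_homologyπ p (p + 1)) U) _
    · obtain ⟨z, rfl⟩ := clsAt_surjective K hex hK n U.unop x
      exact ⟨_, key z⟩
  exact NatIso.isIso_of_isIso_app _

variable {D : Type u} [SmallCategory D] {L : GrothendieckTopology D} (u : D ⥤ C) [u.IsContinuous L J]

include hex hK in
/-- An acyclic resolution computes higher direct images. -/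
theorem rpush_iso_homology (n : ℕ) :
    Nonempty ((CohSite.Rpush J L u n).obj (K.cycles 0) ≅
      (((CohSite.push J L u).mapHomologicalComplex (ComplexShape.up ℕ)).obj K).homology n) := by
  have := isIso_homologyToHPre K hex hK n
  let W := (Functor.whiskeringLeft Dᵒᵖ Cᵒᵖ AddCommGrpCat.{u}).obj u.op
  let G := presheafToSheaf L AddCommGrpCat.{u}
  let K' := ((CohSite.push J L u).mapHomologicalComplex (ComplexShape.up ℕ)).obj K
  let P' := ((sheafToPresheaf L AddCommGrpCat.{u}).mapHomologicalComplex (ComplexShape.up ℕ)).obj K'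
  exact ⟨rpushIso u (K.cycles 0) n ≪≫
    (G.mapIso (((preK K).sc n).mapHomologyIso W ≪≫
      W.mapIso (@asIso _ _ _ _ (homologyToHPre K hex n) this))).symm ≪≫
    ((P'.sc n).mapHomologyIso G).symm ≪≫
    ((HomologicalComplex.homologyFunctor _ _ n).mapIso
      ((NatIso.mapHomologicalComplex (asIso (sheafificationAdjunction L AddCommGrpCat.{u}).counit)
        (ComplexShape.up ℕ)).app K'))⟩

end Groth.Agent.CohQC
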