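import Groth.Prelude.Def_Coh
import Mathlib.Algebra.Category.ModuleCat.Presheaf.Generator
import Mathlib.Algebra.Category.ModuleCat.Presheaf.Sheafification
import Mathlib.Topology.Sheaves.Flasque

/-!
Injective sheaves of modules are flasque.
-/

universe u

open CategoryTheory Category Limits Opposite TopologicalSpace AlgebraicGeometry

noncomputable section

namespace Groth.Agent.CohQC

section Site

variable {C : Type u} [SmallCategory C] {J : GrothendieckTopology C} (R : Sheaf J RingCat.{u})

instance sheafification_preservesMonomorphisms :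
    (PresheafOfModules.sheafification.{u} (R := R) (𝟙 R.obj)).PreservesMonomorphisms where
  preserves f _ := by
    let F := PresheafOfModules.sheafification.{u} (R := R) (𝟙 R.obj)
    have : PreservesFiniteLimits (F ⋙ SheafOfModules.toSheaf.{u} R) := inferInstance
    have : Mono ((F ⋙ SheafOfModules.toSheaf.{u} R).map f) := inferInstance
    exact Functor.mono_of_mono_map (SheafOfModules.toSheaf.{u} R) this

variable {R}

lemma injective_val (I : SheafOfModules.{u} R) [Injective I] :
    Injective ((SheafOfModules.forget R ⋙ PresheafOfModules.restrictScalars (𝟙 R.obj)).obj I) :=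
  Injective.injective_of_adjoint (PresheafOfModules.sheafificationAdjunction (R := R) (𝟙 R.obj)) I

lemma free_map_yoneda_mono {U V : C} (i : V ⟶ U) [Mono i] :
    Mono ((PresheafOfModules.free R.obj).map (yoneda.map i)) := by
  have h : ∀ W : Cᵒᵖ, Mono (((PresheafOfModules.free R.obj).map (yoneda.map i)).app W) := fun W => by
    refine (ModuleCat.mono_iff_injective _).mpr ?_
    change Function.Injective ((ModuleCat.free (R.obj.obj W)).map ((yoneda.map i).app W))
    exact Finsupp.mapDomain_injective fun a b hab => (cancel_mono i).mp hab
  have : Mono ((PresheafOfModules.toPresheaf R.obj).map ((PresheafOfModules.free R.obj).map (yoneda.map i))) :=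
    @NatTrans.mono_of_mono_app _ _ _ _ _ _ _ fun W =>
      (AddCommGrpCat.mono_iff_injective _).mpr ((ModuleCat.mono_iff_injective _).mp (h W))
  exact Functor.mono_of_mono_map (PresheafOfModules.toPresheaf R.obj) this

/-- Sections of an injective sheaf of modules extend along monomorphisms. -/
lemma sections_surjective_of_injective (I : SheafOfModules.{u} R) [Injective I] {U V : C} (i : V ⟶ U) [Mono i] :
    Function.Surjective (I.val.map i.op) := by
  intro t
  have := injective_val I
  have := free_map_yoneda_mono (R := R) i
  let P := (SheafOfModules.forget R ⋙ PresheafOfModules.restrictScalars (𝟙 R.obj)).obj I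
  let ψ : (PresheafOfModules.free R.obj).obj (yoneda.obj V) ⟶ P := PresheafOfModules.freeYonedaEquiv.symm t
  obtain ⟨φ, hφ⟩ : ∃ φ, (PresheafOfModules.free R.obj).map (yoneda.map i) ≫ φ = ψ :=
    ⟨_, Injective.comp_factorThru ψ _⟩
  refine ⟨PresheafOfModules.freeYonedaEquiv φ, ?_⟩
  have h := congr_arg PresheafOfModules.freeYonedaEquiv hφ
  rw [Equiv.apply_symm_apply] at h
  refine Eq.trans ?_ h
  let G := (PresheafOfModules.free R.obj).obj (yoneda.obj U)
  let x : G.obj (op U) := ModuleCat.freeMk (𝟙 U)
  have e1 : PresheafOfModules.freeYonedaEquiv φ = φ.app (op U) x := by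
    simp [PresheafOfModules.freeYonedaEquiv, PresheafOfModules.freeHomEquiv, yonedaEquiv, x]
    rfl
  have e2 : PresheafOfModules.freeYonedaEquiv ((PresheafOfModules.free R.obj).map (yoneda.map i) ≫ φ) =
      φ.app (op V) (((PresheafOfModules.free R.obj).map (yoneda.map i)).app (op V) (ModuleCat.freeMk (𝟙 V))) := by
    simp [PresheafOfModules.freeYonedaEquiv, PresheafOfModules.freeHomEquiv, yonedaEquiv]
    rfl
  refine ((congr_arg (fun y => I.val.map i.op y) e1).trans ?_).trans e2.symm
  refine (congr($(PresheafOfModules.Hom.naturality φ i.op) x)).symm.trans (congr_arg (φ.app (op V)) ?_)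
  simp only [x]
  refine (ModuleCat.freeDesc_apply _ _).trans ?_
  refine Eq.trans ?_ (ModuleCat.free_map_apply _ _).symm
  simp
  exact congr_arg ModuleCat.freeMk (Category.comp_id i)

end Site

variable {X : Scheme.{u}}

/-- The abelian sheaf underlying an injective module is flasque. -/
instance isFlasque_toAb_of_injective (I : X.Modules) [Injective I] :
    TopCat.Sheaf.IsFlasque (Coh.toAb I) where
  epi {U V} i := (AddCommGrpCat.epi_iff_surjective _).mpr
    (@sections_surjective_of_injective _ _ _ X.ringCatSheaf I ‹Injective I› _ _ i.unop inferInstance)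

end Groth.Agent.CohQC
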