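import Groth.Agent.CohQC.ToSheafExact
import Groth.Agent.CohQC.Flasque
import Groth.Agent.CohQC.AcycResolution
import Groth.Agent.SiteCoh.Cartan

/-!
Higher direct images of modules have as underlying abelian sheaves the higher direct images of the
underlying abelian sheaves.
-/

universe u

open CategoryTheory Category Limits Opposite TopologicalSpace AlgebraicGeometry
open Groth.Agent.SiteCoh

set_option backward.isDefEq.respectTransparency false

noncomputable section

namespace Groth.Agent.CohQC

variable {X Y : Scheme.{u}}

instance (X : Scheme.{u}) : PreservesFiniteColimits (SheafOfModules.toSheaf.{u} X.ringCatSheaf) :=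
  toSheaf_preservesFiniteColimits (J := Opens.grothendieckTopology X) X.ringCatSheaf

variable [HasInjectiveResolutions X.Modules]

/-- `R^n f_*` of modules and of abelian sheaves agree. -/
theorem toAb_rpush_iso (f : X ⟶ Y) (M : X.Modules) (n : ℕ) :
    Nonempty (Coh.toAb ((Coh.Rpush f n).obj M) ≅ (Coh.RpushAb f n).obj (Coh.toAb M)) := by
  let R := injectiveResolution M
  let T := SheafOfModules.toSheaf.{u} X.ringCatSheaf
  let T' := SheafOfModules.toSheaf.{u} Y.ringCatSheaf
  have : T.Additive := by infer_instance
  have : T'.Additive := by infer_instance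
  have : PreservesFiniteLimits T := by infer_instance
  have : PreservesFiniteColimits T := toSheaf_preservesFiniteColimits X.ringCatSheaf
  have : PreservesFiniteLimits T' := by infer_instance
  have : PreservesFiniteColimits T' := toSheaf_preservesFiniteColimits Y.ringCatSheaf
  have : T.PreservesHomology := Functor.preservesHomologyOfExact T
  have : T'.PreservesHomology := Functor.preservesHomologyOfExact T'
  let K := (T.mapHomologicalComplex (ComplexShape.up ℕ)).obj R.cocomplex
  have hex : ∀ m, K.ExactAt (m + 1) := fun m =>
    (HomologicalComplex.exactAt_iff K (m + 1)).mpr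
      (((HomologicalComplex.exactAt_iff R.cocomplex (m + 1)).mp (R.cocomplex_exactAt_succ m)).map T)
  have hK : ∀ (U : X.Opens) (m : ℕ), Acyc U (K.X m) := fun U m p =>
    haveI := isFlasque_toAb_of_injective (R.cocomplex.X m)
    flasque_acyclic (Coh.toAb (R.cocomplex.X m)) U p
  obtain ⟨e⟩ := rpush_iso_homology (L := Opens.grothendieckTopology Y) K hex hK (Opens.map f.base) n
  let c : T.obj M ≅ K.cycles 0 :=
    T.mapIso (IsLimit.conePointUniqueUpToIso R.isLimitKernelFork
        (R.cocomplex.cyclesIsKernel 0 1 (by simp))) ≪≫ ((R.cocomplex.sc 0).mapCyclesIso T).symm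
  let a : (Coh.Rpush f n).obj M ≅
      (((Coh.push f).mapHomologicalComplex (ComplexShape.up ℕ)).obj R.cocomplex).homology n :=
    R.isoRightDerivedObj (Coh.push f) n
  let P := ((Coh.push f).mapHomologicalComplex (ComplexShape.up ℕ)).obj R.cocomplex
  exact ⟨T'.mapIso a ≪≫ ((P.sc n).mapHomologyIso T').symm ≪≫ e.symm ≪≫ ((Coh.RpushAb f n).mapIso c).symm⟩

end Groth.Agent.CohQC
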