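import Groth.Agent.CohQC.Affineness
import Groth.Agent.QC.Closure

/-!
Extensions of quasi-coherent modules are quasi-coherent.
-/

set_option autoImplicit false
set_option backward.isDefEq.respectTransparency false

universe u

open CategoryTheory Category Limits Opposite TopologicalSpace AlgebraicGeometry Abelian
open Groth.Agent.SiteCoh

noncomputable section

namespace Groth.Agent.CohQC

theorem isQCoh_mid_spec {R : CommRingCat.{u}} (S : ShortComplex (Spec R).Modules) (hS : S.ShortExact)
    (h1 : Coh.IsQCoh S.X₁) (h3 : Coh.IsQCoh S.X₃) : Coh.IsQCoh S.X₂ := by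
  let F := moduleSpecΓFunctor (R := R)
  let G := tilde.functor R
  have : PreservesLimitsOfSize.{0, 0} F := tilde.adjunction.rightAdjoint_preservesLimits
  have : PreservesFiniteLimits (SheafOfModules.toSheaf (Spec R).ringCatSheaf) := inferInstance
  have : PreservesFiniteColimits (SheafOfModules.toSheaf (Spec R).ringCatSheaf) :=
    toSheaf_preservesFiniteColimits _
  have : S.X₁.IsQuasicoherent := h1
  have : Subsingleton (CohSite.HU (Coh.toAb S.X₁) 1 (⊤ : (Spec R).Opens)) :=
    hu_vanish_of_isAffineOpen (M := S.X₁) (isAffineOpen_top (Spec R)) 0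
  have hsurj : Function.Surjective (S.g.app ⊤) :=
    @sections_surjective _ _ _ _ (hS.map_of_exact (SheafOfModules.toSheaf (Spec R).ringCatSheaf)) (⊤ : (Spec R).Opens) this
  have hF : (S.map F).ShortExact :=
    { exact := by
        have := hS.mono_f
        exact hS.exact.map_of_mono_of_preservesKernel F this inferInstance
      mono_f := by
        have := hS.mono_f
        exact inferInstanceAs (Mono (F.map S.f))
      epi_g := (ModuleCat.epi_iff_surjective _).mpr hsurj }
  have hG : ((S.map F).map G).ShortExact := hF.map_of_exact G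
  let ε := tilde.adjunction (R := R).counit
  let φ : (S.map F).map G ⟶ S :=
    { τ₁ := ε.app S.X₁, τ₂ := ε.app S.X₂, τ₃ := ε.app S.X₃
      comm₁₂ := (ε.naturality S.f).symm
      comm₂₃ := (ε.naturality S.g).symm }
  have : S.X₁.IsQuasicoherent := h1
  have : IsIso φ.τ₁ := Scheme.Modules.isIso_fromTildeΓ_of_isQuasicoherent (R := R) S.X₁
  have : S.X₃.IsQuasicoherent := h3
  have : IsIso φ.τ₃ := Scheme.Modules.isIso_fromTildeΓ_of_isQuasicoherent (R := R) S.X₃
  have := ShortComplex.isIso₂_of_shortExact_of_isIso₁₃ φ hG hS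
  exact QC.isQCoh_of_iso (asIso φ.τ₂) (QC.isQCoh_tilde _)

theorem isQCoh_mid {X : Scheme.{u}} (S : ShortComplex X.Modules) (hS : S.ShortExact)
    (h1 : Coh.IsQCoh S.X₁) (h3 : Coh.IsQCoh S.X₃) : Coh.IsQCoh S.X₂ :=
  QC.isQCoh_of_affine fun U =>
    isQCoh_mid_spec (S.map (Scheme.Modules.restrictFunctor U.2.fromSpec))
      (hS.map_of_exact _) (QC.isQCoh_restrict _ h1) (QC.isQCoh_restrict _ h3)

end Groth.Agent.CohQC
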