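import Groth.Agent.CohQC.Affineness
import Groth.Agent.CohQC.Restrict

/-!
Affineness of a morphism from vanishing of the first higher direct image of quasi-coherent ideals.
-/

universe u

open CategoryTheory Category Limits Opposite TopologicalSpace AlgebraicGeometry
open Groth.Agent.SiteCoh

set_option backward.isDefEq.respectTransparency false

noncomputable section

namespace Groth.Agent.CohQC

variable {X Y : Scheme.{u}}

lemma hu_preimage_one_vanish (f : X ⟶ Y) (F : CohTop.Ab X.carrier) (W : Y.Opens)
    (hk : LocKilled (Opens.grothendieckTopology Y) (Opens.map f.base) F 1)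
    (h1 : Subsingleton (CohSite.HU ((CohTop.push f.base).obj F) 1 W)) :
    Subsingleton (CohSite.HU F 1 (f ⁻¹ᵁ W)) := by
  let S := embedSeq F
  have hS : S.ShortExact := embedSeq_shortExact F
  have hS' := push_shortExact_of_epi (K := Opens.grothendieckTopology Y) (u := Opens.map f.base) hS
    (push_epi_of_locKilled (K := Opens.grothendieckTopology Y) (u := Opens.map f.base) hS hk)
  have h1' : Subsingleton (CohSite.HU (S.map (CohSite.push (Opens.grothendieckTopology X)
      (Opens.grothendieckTopology Y) (Opens.map f.base))).X₁ 1 W) := h1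
  have : Subsingleton (Abelian.Ext (CohCx.freeSheaf (Opens.grothendieckTopology X) ((Opens.map f.base).obj W)) S.X₂ 1) :=
    subsingleton_ext_injective _ _ 0
  refine subsingleton_ext_one_of_lift hS _ fun φ => ?_
  obtain ⟨t, ht⟩ := sections_surjective hS' W (secEquiv ((Opens.map f.base).obj W) S.X₃ φ)
  refine ⟨(secEquiv _ _).symm t, (secEquiv _ _).injective ?_⟩
  refine (secEquiv_comp _ _).trans ?_
  exact (congr_arg (S.g.hom.app (op ((Opens.map f.base).obj W)))
    ((secEquiv ((Opens.map f.base).obj W) S.X₂).apply_symm_apply t)).trans ht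

lemma quasiCompact_ι [QuasiSeparatedSpace X] {U : X.Opens} (hU : IsCompact (U : Set X)) : QuasiCompact U.ι where
  isCompact_preimage V hV hV' := by
    rw [U.ι.isOpenEmbedding.isInducing.isCompact_iff, Set.image_preimage_eq_inter_range]
    rw [show Set.range U.ι = (U : Set X) from U.range_ι]
    exact QuasiSeparatedSpace.inter_isCompact V U hV hV' U.2 hU

/-- Extending a quasi-coherent ideal from a quasi-compact open. -/
lemma exists_ideal_extension [QuasiSeparatedSpace X] {U : X.Opens} (hU : IsCompact (U : Set X))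
    (J : U.toScheme.Modules) (i : J ⟶ Coh.structureModule U) [Mono i] (hJ : Coh.IsQCoh J) :
    ∃ (I : X.Modules) (k : I ⟶ Coh.structureModule X), Mono k ∧ Coh.IsQCoh I ∧ Nonempty (I.restrict U.ι ≅ J) := by
  have := quasiCompact_ι hU
  let R := Scheme.Modules.restrictFunctor U.ι
  let π : R.obj (Coh.structureModule X) ⟶ cokernel i :=
    (Scheme.Modules.restrictUnitIso U.ι).hom ≫ cokernel.π i
  let φ : Coh.structureModule X ⟶ (Scheme.Modules.pushforward U.ι).obj (cokernel i) :=
    (Scheme.Modules.restrictAdjunction U.ι).homEquiv _ _ π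
  have hQ : (cokernel i).IsQuasicoherent := QC.isQCoh_cokernel hJ (QC.isQCoh_unit _) i
  have hφ : R.map φ ≫ (Scheme.Modules.restrictAdjunction U.ι).counit.app (cokernel i) = π :=
    ((Scheme.Modules.restrictAdjunction U.ι).homEquiv_counit ..).symm.trans
      (((Scheme.Modules.restrictAdjunction U.ι).homEquiv _ _).symm_apply_apply π)
  have e1 : R.obj (kernel φ) ≅ kernel π :=
    PreservesKernel.iso R φ ≪≫ kernel.mapIso (R.map φ) π (Iso.refl _)
      (asIso ((Scheme.Modules.restrictAdjunction U.ι).counit.app (cokernel i)))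
      (by rw [Iso.refl_hom, Category.id_comp]; exact hφ)
  have e2 : kernel π ≅ kernel (cokernel.π i) := kernelIsIsoComp _ _
  have e3 : J ≅ kernel (cokernel.π i) := asIso (Abelian.factorThruImage i)
  exact ⟨kernel φ, kernel.ι φ, inferInstance,
    QC.isQCoh_kernel (QC.isQCoh_unit X) (QC.isQCoh_pushforward U.ι) φ, ⟨e1 ≪≫ e2 ≪≫ e3.symm⟩⟩

theorem isAffineHom_of_locKilled (f : X ⟶ Y) [QuasiCompact f] [QuasiSeparatedSpace X] [QuasiSeparatedSpace Y]
    (h : ∀ (I : X.Modules) (i : I ⟶ Coh.structureModule X), Mono i → Coh.IsQCoh I →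
      LocKilled (Opens.grothendieckTopology Y) (Opens.map f.base) (Coh.toAb I) 1) : IsAffineHom f where
  isAffine_preimage W hW := by
    have hc : IsCompact ((f ⁻¹ᵁ W : X.Opens) : Set X) := f.isCompact_preimage hW.isCompact
    have : CompactSpace (f ⁻¹ᵁ W : X.Opens).toScheme := isCompact_iff_compactSpace.mp hc
    refine isAffine_of_subH1Zero fun J i _ hJ => ?_
    obtain ⟨I, k, hk, hI, ⟨e⟩⟩ := exists_ideal_extension hc J i hJ
    refine hh_subsingleton_of_iso e 1 ?_
    have : QuasiSeparated f := QuasiSeparated.of_comp f (Limits.terminal.from Y)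
    have : (Coh.push f).obj I |>.IsQuasicoherent := @QC.isQCoh_pushforward _ _ _ hI f _ _
    have hv := hu_preimage_one_vanish f (Coh.toAb I) W (h I k hk hI)
      (hu_vanish_of_isAffineOpen ((Coh.push f).obj I) hW 0)
    obtain ⟨e'⟩ := hu_restrict I (f ⁻¹ᵁ W) 1
    exact e'.toEquiv.symm.subsingleton

end Groth.Agent.CohQC
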