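import Groth.Agent.CohQC.CechVanish
import Groth.Agent.SiteCoh.ClosedPush
import Mathlib.CategoryTheory.Sites.SheafCohomology.MayerVietoris
import Mathlib.Topology.Sheaves.MayerVietoris
import Mathlib.AlgebraicGeometry.Morphisms.QuasiSeparated

/-!
Vanishing of cohomology in high degrees by Mayer–Vietoris induction.
-/

universe u

open CategoryTheory Category Limits Opposite TopologicalSpace AlgebraicGeometry Abelian
open Groth.Agent.SiteCoh

set_option backward.isDefEq.respectTransparency false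

noncomputable section

namespace Groth.Agent.CohQC

section Opens

variable {X : TopCat.{u}}

lemma hu_sup (F : CohTop.Ab X) (U V : Opens X) (n : ℕ)
    (h12 : Subsingleton (CohSite.HU F n (U ⊓ V))) (hU : Subsingleton (CohSite.HU F (n + 1) U))
    (hV : Subsingleton (CohSite.HU F (n + 1) V)) : Subsingleton (CohSite.HU F (n + 1) (U ⊔ V)) := by
  let S := _root_.Opens.mayerVietorisSquare U V
  have hS := S.shortComplex_shortExact
  have h1 : Subsingleton (Ext S.shortComplex.X₁ F n) := h12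
  have h2 : Subsingleton (Ext S.shortComplex.X₂ F (n + 1)) :=
    haveI : Subsingleton (Ext ((presheafToSheaf (Opens.grothendieckTopology X) AddCommGrpCat.{u}).obj
      (yoneda.obj S.X₂ ⋙ AddCommGrpCat.free)) F (n + 1)) := hU
    haveI : Subsingleton (Ext ((presheafToSheaf (Opens.grothendieckTopology X) AddCommGrpCat.{u}).obj
      (yoneda.obj S.X₃ ⋙ AddCommGrpCat.free)) F (n + 1)) := hV
    Ext.biprodAddEquiv.toEquiv.subsingleton
  refine subsingleton_of_forall_eq 0 fun x => ?_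
  obtain ⟨x₁, rfl⟩ := Ext.contravariant_sequence_exact₃ hS F
    (show Ext S.shortComplex.X₃ F (n + 1) from x) (Subsingleton.elim _ _) (n₀ := n) (by omega)
  rw [Subsingleton.elim x₁ 0]
  exact Ext.comp_zero hS.extClass F n _ _

/-- A finite union of members of a family of acyclic opens closed under intersections has cohomology
vanishing from the number of members on. -/
lemma hu_iSup_vanish (F : CohTop.Ab X) (B : Set (Opens X)) (hinf : ∀ V ∈ B, ∀ W ∈ B, V ⊓ W ∈ B)
    (hac : ∀ V ∈ B, ∀ q : ℕ, Subsingleton (CohSite.HU F (q + 1) V)) :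
    ∀ (t : ℕ) (W : Fin t → Opens X), (∀ i, W i ∈ B) → ∀ n, t ≤ n → Subsingleton (CohSite.HU F n (⨆ i, W i)) := by
  intro t
  induction t with
  | zero =>
    intro W _ n _
    rw [iSup_of_empty]
    exact subsingleton_ext_bot F n
  | succ t ih =>
    intro W hW n hn
    obtain ⟨m, rfl⟩ : ∃ m, n = m + 1 := ⟨n - 1, by omega⟩
    have e : (⨆ i, W i) = W 0 ⊔ ⨆ i : Fin t, W i.succ :=
      le_antisymm (iSup_le (Fin.cases le_sup_left fun j => le_sup_of_le_right (le_iSup (fun i : Fin t => W i.succ) j)))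
        (sup_le (le_iSup W 0) (iSup_le fun i => le_iSup W i.succ))
    rw [e]
    refine hu_sup F _ _ m ?_ (hac _ (hW 0) m) (ih _ (fun i => hW _) (m + 1) (by omega))
    rw [inf_iSup_eq]
    exact ih _ (fun i => hinf _ (hW 0) _ (hW _)) m (by omega)

end Opens

variable {X : Scheme.{u}}

lemma isAffineOpen_hu_vanish (M : X.Modules) [M.IsQuasicoherent] {U : X.Opens} (hU : IsAffineOpen U)
    {n : ℕ} (hn : 1 ≤ n) : Subsingleton (CohSite.HU (Coh.toAb M) n U) := by
  obtain ⟨q, rfl⟩ : ∃ q, n = q + 1 := ⟨n - 1, by omega⟩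
  exact hu_vanish_of_isAffineOpen M hU q

/-- On a compact open inside a quasi-separated one, cohomology of quasi-coherent modules on all basic
opens vanishes in high degrees. -/
theorem exists_bound (Ω : X.Opens) (hΩ : IsQuasiSeparated (Ω : Set X)) (U : X.Opens)
    (hUc : IsCompact (U : Set X)) (hUΩ : U ≤ Ω) :
    ∃ d : ℕ, ∀ (M : X.Modules), Coh.IsQCoh M → ∀ p : ℕ, d ≤ p → ∀ g : Γ(X, U),
      Subsingleton (CohSite.HU (Coh.toAb M) p (X.basicOpen g)) := by
  revert hUΩ
  refine compact_open_induction_on (P := fun U => U ≤ Ω → ∃ d : ℕ, ∀ (M : X.Modules), Coh.IsQCoh M →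
    ∀ p : ℕ, d ≤ p → ∀ g : Γ(X, U), Subsingleton (CohSite.HU (Coh.toAb M) p (X.basicOpen g))) U hUc ?_ ?_
  · exact fun _ => ⟨0, fun M _ p _ g => by
      rw [show X.basicOpen g = ⊥ from le_bot_iff.mp (X.basicOpen_le g)]
      exact subsingleton_ext_bot _ p⟩
  rintro S hS ⟨V, hV⟩ ih hle
  obtain ⟨d, hd⟩ := ih (le_sup_left.trans hle)
  -- the overlap is covered by finitely many basic opens of `V`
  have hc : IsCompact ((S ⊓ V : X.Opens) : Set X) :=
    hΩ _ _ (le_sup_left.trans hle) S.2 hS (le_sup_right.trans hle) V.2 hV.isCompact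
  have hloc : ∀ x : (S ⊓ V : X.Opens), ∃ f : Γ(X, V), X.basicOpen f ≤ S ⊓ V ∧ x.1 ∈ X.basicOpen f := fun x => by
    obtain ⟨f, hf, hxf⟩ := hV.exists_basicOpen_le (V := S ⊓ V) x x.2.2
    exact ⟨f, hf, hxf⟩
  choose f hf hxf using hloc
  obtain ⟨s, hs⟩ := hc.elim_finite_subcover (fun x => (X.basicOpen (f x) : Set X))
    (fun x => (X.basicOpen (f x)).2) fun x hx => Set.mem_iUnion.mpr ⟨⟨x, hx⟩, hxf _⟩
  let e := s.equivFin
  refine ⟨max d (s.card + 1), fun M hM p hp g => ?_⟩
  have : M.IsQuasicoherent := hM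
  obtain ⟨m, rfl⟩ : ∃ m, p = m + 1 := ⟨p - 1, by omega⟩
  let gS := QC.resO X (le_sup_left : S ≤ S ⊔ V) g
  let gV := QC.resO X (le_sup_right : V ≤ S ⊔ V) g
  have eS : X.basicOpen gS = S ⊓ X.basicOpen g := X.basicOpen_res _ _
  have eV : X.basicOpen gV = V ⊓ X.basicOpen g := X.basicOpen_res _ _
  have esup : X.basicOpen g = X.basicOpen gS ⊔ X.basicOpen gV := by
    rw [eS, eV, ← inf_sup_right]
    exact (inf_eq_right.mpr (X.basicOpen_le g)).symm
  rw [esup]
  refine hu_sup (Coh.toAb M) _ _ m ?_ (hd M hM _ (by omega) gS)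
    (isAffineOpen_hu_vanish M (hV.basicOpen _) (by omega))
  have einf : X.basicOpen gS ⊓ X.basicOpen gV =
      ⨆ i : Fin s.card, X.basicOpen (f (e.symm i).1) ⊓ X.basicOpen gV := by
    rw [eS, eV, ← iSup_inf_eq, inf_inf_inf_comm, inf_idem, ← inf_assoc]
    refine le_antisymm (le_inf (le_inf (fun x hx => ?_) (inf_le_left.trans inf_le_right)) inf_le_right)
      (inf_le_inf_right _ (inf_le_left.trans ?_))
    · obtain ⟨y, hy, hxy⟩ := Set.mem_iUnion₂.mp (hs hx.1)
      refine (Opens.mem_iSup (s := fun i : Fin s.card => X.basicOpen (f (e.symm i).1))).mpr ⟨e ⟨y, hy⟩, ?_⟩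
      rw [Equiv.symm_apply_apply]
      exact hxy
    · exact iSup_le fun i => hf _
  rw [einf]
  refine hu_iSup_vanish (Coh.toAb M) {W : X.Opens | ∃ a : Γ(X, V), X.basicOpen a = W} ?_ ?_ s.card _
    (fun i => ⟨_, X.basicOpen_mul _ _⟩) m (by omega)
  · rintro _ ⟨a, rfl⟩ _ ⟨b, rfl⟩
    exact ⟨a * b, X.basicOpen_mul a b⟩
  · rintro _ ⟨a, rfl⟩ q
    exact hu_vanish_of_isAffineOpen M (hV.basicOpen a) q

end Groth.Agent.CohQC
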