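import Groth.Agent.QC.Sections
import Groth.Agent.SiteCoh.Cartan

/-!
Čech cohomology of a quasi-coherent module for finite coverings by basic opens; vanishing of higher
cohomology of quasi-coherent modules on affine opens.
-/

universe u

open CategoryTheory Category Limits Opposite TopologicalSpace AlgebraicGeometry
open Groth.Agent.SiteCoh Groth.Agent.QC

set_option backward.isDefEq.respectTransparency false

noncomputable section

namespace Groth.Agent.CohQC

variable {X : Scheme.{u}}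

lemma basicOpen_prod {U : X.Opens} {n : ℕ} (f : Fin (n + 1) → Γ(X, U)) :
    X.basicOpen (∏ k, f k) = ⨅ k, X.basicOpen (f k) := by
  induction n with
  | zero => simp
  | succ n ih =>
    rw [Fin.prod_univ_succ, X.basicOpen_mul, ih]
    refine le_antisymm (le_iInf fun k => ?_) (le_inf (iInf_le _ 0) (le_iInf fun k => iInf_le _ _))
    exact Fin.cases inf_le_left (fun j => inf_le_right.trans (iInf_le _ j)) k

variable {U : X.Opens} {ι : Type u} (g : ι → Γ(X, U))

lemma tupleProd_basicOpen {n : ℕ} (a : Fin (n + 1) → ι) :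
    tupleProd (fun i => X.basicOpen (g i)) a = X.basicOpen (∏ k, g (a k)) := by
  rw [basicOpen_prod]
  exact tupleProd_eq_iInf _ a

lemma cocycle_lift {M : X.Modules} [Fintype ι] (hloc : IsLoc M U) (hg : Ideal.span (Set.range g) = ⊤)
    (V : ∀ n : ℕ, (Fin (n + 1) → ι) → X.Opens)
    (hV : ∀ n (a : Fin (n + 1) → ι), V n a = X.basicOpen (∏ k, g (a k)))
    (hdrop : ∀ n (b : Fin (n + 2) → ι) (k : Fin (n + 2)), V (n + 1) b ≤ V n (b ∘ k.succAbove))
    {p : ℕ} (x : ∀ a : Fin (p + 1 + 1) → ι, Γ(M, V (p + 1) a))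
    (hx : ∀ b : Fin (p + 1 + 2) → ι,
      ∑ k : Fin (p + 1 + 2), (-1 : ℤ) ^ (k : ℕ) • res M (hdrop (p + 1) b k) (x (b ∘ k.succAbove)) = 0) :
    ∃ y : ∀ a : Fin (p + 1) → ι, Γ(M, V p a), ∀ b : Fin (p + 2) → ι,
      ∑ k : Fin (p + 2), (-1 : ℤ) ^ (k : ℕ) • res M (hdrop p b k) (y (b ∘ k.succAbove)) = x b := by
  classical
  let ga : ∀ {n : ℕ}, (Fin (n + 1) → ι) → Γ(X, U) := fun a => ∏ k, g (a k)
  have hle : ∀ {n : ℕ} (a : Fin (n + 1) → ι), V n a ≤ U := fun a => (hV _ a).trans_le (X.basicOpen_le _)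
  let ρ : ∀ {n : ℕ} (a : Fin (n + 1) → ι), Γ(M, U) →+ Γ(M, V n a) := fun a => res M (hle a)
  let σ : ∀ {n : ℕ} (a : Fin (n + 1) → ι), Γ(X, U) →+* Γ(X, V n a) := fun a => resO X (hle a)
  have gen : ∀ (f : Γ(X, U)) (W : X.Opens) (hW : W = X.basicOpen f) (h : W ≤ U),
      IsUnit (resO X h f) ∧
      (∀ t : Γ(M, W), ∃ (n : ℕ) (s : Γ(M, U)), res M h s = resO X h f ^ n • t) ∧
      ∀ s : Γ(M, U), res M h s = 0 → ∃ n : ℕ, f ^ n • s = 0 := by
    intro f W hW h
    subst hW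
    exact ⟨RingedSpace.isUnit_res_basicOpen _ f, hloc.exists_extend f, hloc.exists_pow_smul_eq_zero f⟩
  have hunit : ∀ {n : ℕ} (a : Fin (n + 1) → ι), IsUnit (σ a (ga a)) := fun a => (gen _ _ (hV _ a) _).1
  -- numerators
  choose n₀ m₀ hm₀ using fun a => (gen (ga a) (V (p + 1) a) (hV _ a) (hle a)).2.1 (x a)
  let N := Finset.univ.sup n₀
  let m : (Fin (p + 1 + 1) → ι) → Γ(M, U) := fun a => ga a ^ (N - n₀ a) • m₀ a
  have hm : ∀ a, ρ a (m a) = σ a (ga a) ^ N • x a := fun a => by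
    simp only [ρ, m, res_smul, map_pow]
    rw [hm₀, smul_smul, ← pow_add, Nat.sub_add_cancel (Finset.le_sup (Finset.mem_univ a))]
  have hga : ∀ {n : ℕ} (b : Fin (n + 2) → ι) (k : Fin (n + 2)),
      ga b = g (b k) * ga (b ∘ k.succAbove) := fun b k => Fin.prod_univ_succAbove _ k
  have hρ : ∀ {n : ℕ} (b : Fin (n + 2) → ι) (k : Fin (n + 2)) (s : Γ(M, U)),
      ρ b s = res M (hdrop n b k) (ρ (b ∘ k.succAbove) s) := fun b k s => (res_res M _ _ s).symm
  have hσ : ∀ {n : ℕ} (b : Fin (n + 2) → ι) (k : Fin (n + 2)) (r : Γ(X, U)),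
      resO X (hdrop n b k) (σ (b ∘ k.succAbove) r) = σ b r := fun b k r => resO_resO _ _ r
  -- the cocycle condition after clearing denominators
  let e : (Fin (p + 1 + 2) → ι) → Γ(M, U) := fun b =>
    ∑ k : Fin (p + 1 + 2), (-1 : ℤ) ^ (k : ℕ) • g (b k) ^ N • m (b ∘ k.succAbove)
  have he : ∀ b, ρ b (e b) = 0 := fun b => by
    refine Eq.trans ?_ ((congr_arg (σ b (ga b) ^ N • ·) (hx b)).trans (smul_zero _))
    simp only [e, map_sum, map_zsmul, Finset.smul_sum]
    refine Finset.sum_congr rfl fun k _ => ?_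
    rw [smul_comm (σ b (ga b) ^ N), hρ b k, hga b k, map_mul, mul_pow, mul_smul]
    simp only [ρ, σ]
    rw [res_smul, map_pow]
    change (-1 : ℤ) ^ (k : ℕ) • res M (hdrop _ b k) (_ • ρ (b ∘ k.succAbove) (m _)) = _
    rw [hm, res_smul, res_smul, map_pow, map_pow, hσ, hσ]
  choose nb hnb using fun b => (gen (ga b) (V (p + 1 + 1) b) (hV _ b) (hle b)).2.2 (e b) (he b)
  let K := Finset.univ.sup nb
  let m' : (Fin (p + 1 + 1) → ι) → Γ(M, U) := fun a => ga a ^ K • m a
  have hm' : ∀ a, ρ a (m' a) = σ a (ga a) ^ (N + K) • x a := fun a => by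
    simp only [m', ρ, res_smul, map_pow]
    change _ • ρ a (m a) = _
    rw [hm, smul_smul, ← pow_add, add_comm K N]
  have he' : ∀ b : Fin (p + 1 + 2) → ι,
      ∑ k : Fin (p + 1 + 2), (-1 : ℤ) ^ (k : ℕ) • g (b k) ^ (N + K) • m' (b ∘ k.succAbove) = 0 := fun b => by
    have h0 : ga b ^ K • e b = 0 := by
      obtain ⟨d, hd⟩ := Nat.exists_eq_add_of_le (Finset.le_sup (f := nb) (Finset.mem_univ b))
      rw [show K = nb b + d from hd, add_comm (nb b) d, pow_add, mul_smul, hnb b, smul_zero]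
    refine Eq.trans ?_ h0
    simp only [e, Finset.smul_sum]
    refine Finset.sum_congr rfl fun k _ => ?_
    rw [smul_comm (ga b ^ K) ((-1 : ℤ) ^ (k : ℕ))]
    congr 1
    simp only [m', smul_smul, hga b k, mul_pow]
    congr 1
    ring
  -- partition of unity
  obtain ⟨c, hc⟩ := Ideal.mem_span_range_iff_exists_fun.mp
    (show (1 : Γ(X, U)) ∈ Ideal.span (Set.range fun i => g i ^ (N + K)) by
      have := Ideal.span_pow_eq_top _ hg (N + K)
      rw [← Set.range_comp] at this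
      exact this ▸ Submodule.mem_top)
  let y : ∀ a : Fin (p + 1) → ι, Γ(M, V p a) := fun a =>
    (↑((hunit a).pow (N + K)).unit⁻¹ : Γ(X, V p a)) • ρ a (∑ i, c i • m' (Fin.cons i a))
  have hy : ∀ a, σ a (ga a) ^ (N + K) • y a = ρ a (∑ i, c i • m' (Fin.cons i a)) := fun a => by
    simp only [y, smul_smul, IsUnit.mul_val_inv, one_smul]
  clear_value y
  refine ⟨y, fun b => ((hunit b).pow (N + K)).smul_left_cancel.mp ?_⟩
  rw [← hm', Finset.smul_sum]
  calc ∑ k : Fin (p + 2), σ b (ga b) ^ (N + K) •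
        ((-1 : ℤ) ^ (k : ℕ) • res M (hdrop p b k) (y (b ∘ k.succAbove)))
      = ρ b (∑ k : Fin (p + 2), (-1 : ℤ) ^ (k : ℕ) • g (b k) ^ (N + K) •
          ∑ i, c i • m' (Fin.cons i (b ∘ k.succAbove))) := by
        rw [map_sum]
        refine Finset.sum_congr rfl fun k _ => ?_
        rw [smul_comm (σ b (ga b) ^ (N + K)), map_zsmul]
        congr 1
        rw [hga b k, map_mul, mul_pow, mul_smul, hρ b k,
          show ρ (b ∘ k.succAbove) (g (b k) ^ (N + K) • _) = σ (b ∘ k.succAbove) (g (b k) ^ (N + K)) • _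
            from res_smul M _ _ _,
          res_smul, hσ, map_pow, ← hy, res_smul, map_pow, hσ]
    _ = ρ b (m' b) := by
        congr 1
        simp only [Finset.smul_sum]
        rw [Finset.sum_comm]
        refine Eq.trans (Finset.sum_congr rfl fun i _ => ?_)
          ((Finset.sum_smul ..).symm.trans (show (∑ i, c i * g i ^ (N + K)) • m' b = m' b by rw [hc, one_smul]))
        have h1 := he' (Fin.cons i b)
        rw [Fin.sum_univ_succ] at h1
        simp only [Fin.val_zero, pow_zero, one_smul, Fin.cons_zero, Fin.cons_succ, Fin.succAbove_zero,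
          Fin.cons_comp_succ, Fin.val_succ, pow_succ, mul_neg, mul_one, neg_smul, Fin.cons_comp_succ_succAbove,
          Finset.sum_neg_distrib] at h1
        rw [← sub_eq_add_neg, sub_eq_zero] at h1
        rw [mul_smul, h1, Finset.smul_sum]
        refine Finset.sum_congr rfl fun k _ => ?_
        rw [smul_comm (c i) ((-1 : ℤ) ^ (k : ℕ)), smul_comm (c i) (g (b k) ^ (N + K))]
        rfl

lemma cechExact_qcoh (hU : IsAffineOpen U) (M : X.Modules) [M.IsQuasicoherent] [Finite ι]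
    (hg : Ideal.span (Set.range g) = ⊤) (p : ℕ) :
    CechExact (fun i => X.basicOpen (g i)) (res' (𝟭 X.Opens) (Coh.toAb M)) p := by
  have : Fintype ι := Fintype.ofFinite ι
  intro x hx
  obtain ⟨y, hy⟩ := cocycle_lift g (isLoc_of_isQCoh hU (M := M)) hg
    (fun _ a => tupleProd (fun i => X.basicOpen (g i)) a) (fun _ a => tupleProd_basicOpen g a)
    (fun _ b k => leOfHom (tupleDrop _ b k)) x fun b => congr_fun hx b
  exact ⟨y, funext hy⟩

/-- The finite coverings of affine opens by basic opens. -/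
def IsBasicCover (ι : Type u) (V : ι → X.Opens) : Prop :=
  Finite ι ∧ ∃ (U : X.Opens) (_ : IsAffineOpen U) (g : ι → Γ(X, U)),
    Ideal.span (Set.range g) = ⊤ ∧ V = fun i => X.basicOpen (g i)

lemma iSup_basicOpen {U : X.Opens} (hU : IsAffineOpen U) {ι : Type u} {g : ι → Γ(X, U)}
    (hg : Ideal.span (Set.range g) = ⊤) : ⨆ i, X.basicOpen (g i) = U := by
  conv_rhs => rw [← hU.iSup_basicOpen_eq_self_iff.mpr hg]
  rw [iSup_subtype' (f := fun f (_ : f ∈ Set.range g) => X.basicOpen f) |>.symm, iSup_range]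

lemma exists_isBasicCover {U : X.Opens} (hU : IsAffineOpen U) {κ : Type u} (W : κ → X.Opens)
    (hW : iSup W = U) : ∃ (ι : Type u) (V : ι → X.Opens), IsBasicCover ι V ∧ iSup V = U ∧ ∀ i, ∃ k, V i ≤ W k := by
  have h : ∀ x : U, ∃ f : Γ(X, U), (∃ k, X.basicOpen f ≤ W k) ∧ x.1 ∈ X.basicOpen f := fun x => by
    obtain ⟨k, hk⟩ := Opens.mem_iSup.mp (hW.symm ▸ x.2 : x.1 ∈ iSup W)
    obtain ⟨f, hf, hxf⟩ := hU.exists_basicOpen_le (V := W k) ⟨x.1, hk⟩ x.2
    exact ⟨f, ⟨k, hf⟩, hxf⟩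
  choose f hfW hxf using h
  obtain ⟨t, ht⟩ := hU.isCompact.elim_finite_subcover (fun x => (X.basicOpen (f x) : Set X))
    (fun x => (X.basicOpen (f x)).2) fun x hx => Set.mem_iUnion.mpr ⟨⟨x, hx⟩, hxf _⟩
  have hg : Ideal.span (Set.range fun x : t => f x.1) = ⊤ :=
    hU.self_le_iSup_basicOpen_iff.mp fun x hx => by
      obtain ⟨y, hy, hxy⟩ := Set.mem_iUnion₂.mp (ht hx)
      exact Opens.mem_iSup.mpr ⟨⟨_, ⟨y, hy⟩, rfl⟩, hxy⟩
  exact ⟨t, fun x => X.basicOpen (f x.1), ⟨Finite.of_fintype _, U, hU, _, hg, rfl⟩,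
    iSup_basicOpen hU hg, fun x => hfW _⟩

/-- Higher cohomology of a quasi-coherent module vanishes on affine opens. -/
theorem hu_vanish_of_isAffineOpen (M : X.Modules) [M.IsQuasicoherent] {U : X.Opens} (hU : IsAffineOpen U)
    (p : ℕ) : Subsingleton (CohSite.HU (Coh.toAb M) (p + 1) U) := by
  refine cartanOpens {V : X.Opens | IsAffineOpen V} IsBasicCover (fun ι V hV => ?_)
    (fun U hU κ W hW => exists_isBasicCover hU W hW) (Coh.toAb M) (fun ι V hV p => ?_) U hU p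
  · obtain ⟨hι, U, hU, g, hg, rfl⟩ := hV
    refine ⟨(iSup_basicOpen hU hg).symm ▸ hU, fun n a => ?_⟩
    change IsAffineOpen _
    rw [← basicOpen_prod]
    exact hU.basicOpen _
  · obtain ⟨hι, U, hU, g, hg, rfl⟩ := hV
    exact cechExact_qcoh g hU M hg p

end Groth.Agent.CohQC
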