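import Groth.Agent.CohQC.Push
import Groth.Agent.QC.IdealMod
import Mathlib.CategoryTheory.Sites.EpiMono
import Mathlib.AlgebraicGeometry.Morphisms.Affine

/-!
Serre's criterion of affineness.
-/

universe u

open CategoryTheory Category Limits Opposite TopologicalSpace AlgebraicGeometry
open Groth.Agent.SiteCoh

set_option backward.isDefEq.respectTransparency false

noncomputable section

namespace Groth.Agent.CohQC

attribute [local instance] Abelian.hasFiniteBiproducts

variable {X : Scheme.{u}}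

/-- All quasi-coherent submodules have vanishing first cohomology. -/
def SubH1Zero (F : X.Modules) : Prop :=
  ∀ (K : X.Modules) (i : K ⟶ F), Mono i → Coh.IsQCoh K → Subsingleton (Coh.HH X K 1)

/-- The sequence of abelian sheaves of a monomorphism. -/
abbrev monoSeq {A B : X.Modules} (i : A ⟶ B) :
    ShortComplex (Sheaf (Opens.grothendieckTopology X) AddCommGrpCat.{u}) :=
  ShortComplex.mk ((SheafOfModules.toSheaf X.ringCatSheaf).map i)
    (cokernel.π ((SheafOfModules.toSheaf X.ringCatSheaf).map i)) (cokernel.condition _)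

lemma monoSeq_shortExact {A B : X.Modules} (i : A ⟶ B) [Mono i] : (monoSeq i).ShortExact := by
  have : PreservesFiniteLimits (SheafOfModules.toSheaf X.ringCatSheaf) := inferInstance
  have : Mono (monoSeq i).f := (SheafOfModules.toSheaf X.ringCatSheaf).map_mono i
  exact { exact := ShortComplex.exact_of_g_is_cokernel _ (cokernelIsCokernel _) }

lemma sections_surjective_top {S : ShortComplex (Sheaf (Opens.grothendieckTopology X) AddCommGrpCat.{u})}
    (hS : S.ShortExact) (h : Subsingleton (Sheaf.H.{u} S.X₁ 1)) :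
    Function.Surjective (S.g.hom.app (op (⊤ : X.Opens))) :=
  have : Subsingleton (CohSite.HU S.X₁ 1 (⊤ : X.Opens)) :=
    (huTerminalEquiv _ isTerminalTop S.X₁ 1).toEquiv.symm.subsingleton
  sections_surjective hS ⊤

lemma range_idealModι_of_disjoint (I : X.IdealSheafData) (V : X.Opens) (h : (V : Set X) ∩ I.support = ∅)
    (t : Γ(X, V)) : t ∈ Set.range ((ClSub.idealModι I).app V) := by
  rw [QC.mem_range_idealModι]
  refine TopCat.Presheaf.IsSheaf.section_ext I.subscheme.sheaf.property fun z hz => ?_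
  exfalso
  have h1 : I.subschemeι.base z ∈ (V : Set X) ∩ I.support :=
    ⟨hz, I.range_subschemeι ▸ Set.mem_range_self z⟩
  rw [h] at h1
  exact h1

lemma basicOpen_disjoint_of_range (I : X.IdealSheafData) {V : X.Opens} (t : Γ(X, V))
    (ht : t ∈ Set.range ((ClSub.idealModι I).app V)) (x : X) (hx : x ∈ I.support) : x ∉ X.basicOpen t := by
  rw [QC.mem_range_idealModι] at ht
  intro hxt
  obtain ⟨z, rfl⟩ : x ∈ Set.range I.subschemeι := I.range_subschemeι.symm ▸ hx
  have : z ∈ I.subschemeι ⁻¹ᵁ X.basicOpen t := hxt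
  rw [Scheme.preimage_basicOpen, ht, Scheme.basicOpen_zero] at this
  exact this

lemma range_idealModι_mono {I J : X.IdealSheafData} (h : I ≤ J) (V : X.Opens) (t : Γ(X, V))
    (ht : t ∈ Set.range ((ClSub.idealModι I).app V)) : t ∈ Set.range ((ClSub.idealModι J).app V) := by
  rw [QC.mem_range_idealModι] at ht ⊢
  have e := Scheme.Hom.congr_app (Scheme.IdealSheafData.inclusion_subschemeι h) V
  rw [Scheme.Hom.comp_app] at e
  have := ConcreteCategory.congr_hom e t
  simp only [ConcreteCategory.comp_apply, ht, map_zero] at this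
  exact (injective_iff_map_eq_zero _).mp (ConcreteCategory.bijective_of_isIso _).1 _ this.symm

lemma exists_basicOpen_le_of_isClosed (h : SubH1Zero (Coh.structureModule X)) {x : X}
    (hx : IsClosed ({x} : Set X)) {U : X.Opens} (hxU : x ∈ U) :
    ∃ f : Γ(X, ⊤), x ∈ X.basicOpen f ∧ X.basicOpen f ≤ U := by
  classical
  let V : X.Opens := ⟨{x}ᶜ, hx.isOpen_compl⟩
  let Z1 : Closeds X := ⟨(U : Set X)ᶜ, U.2.isClosed_compl⟩
  let Z2 : Closeds X := ⟨(U : Set X)ᶜ ∪ {x}, U.2.isClosed_compl.union hx⟩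
  let I1 := Scheme.IdealSheafData.vanishingIdeal Z1
  let I2 := Scheme.IdealSheafData.vanishingIdeal Z2
  have s1 : (I1.support : Set X) = (U : Set X)ᶜ := Scheme.IdealSheafData.coe_support_vanishingIdeal _
  have s2 : (I2.support : Set X) = (U : Set X)ᶜ ∪ {x} := Scheme.IdealSheafData.coe_support_vanishingIdeal _
  obtain ⟨j, hj⟩ := QC.exists_lift_of_range (ClSub.idealModι I1) (ClSub.idealModι I2) fun O a =>
    range_idealModι_mono (Scheme.IdealSheafData.vanishingIdeal_antimono
      (show Z1 ≤ Z2 from fun y hy => Or.inl hy)) O _ ⟨a, rfl⟩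
  have : Mono j := by
    have : Mono (j ≫ ClSub.idealModι I1) := hj ▸ inferInstance
    exact mono_of_mono j (ClSub.idealModι I1)
  have hS := monoSeq_shortExact j
  have hI2 : Coh.IsQCoh (ClSub.idealMod I2) := QC.isQCoh_idealMod I2
  -- the local section
  obtain ⟨a, ha⟩ := range_idealModι_of_disjoint I1 U (by rw [s1, Set.inter_compl_self]) 1
  let S := monoSeq j
  let π := fun W : X.Opens => (S.g.hom.app (op W))
  have hzero : S.X₃.obj.map (homOfLE (inf_le_left : U ⊓ V ≤ U)).op (π U a) = 0 := by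
    rw [← NatTrans.naturality_apply]
    obtain ⟨b, hb⟩ := range_idealModι_of_disjoint I2 (U ⊓ V) (by
      rw [s2, Set.eq_empty_iff_forall_notMem]
      rintro y ⟨⟨hyU, hyV⟩, hy | hy⟩
      · exact hy hyU
      · exact hyV hy) (QC.resO X (inf_le_left : U ⊓ V ≤ U) 1)
    have : j.app (U ⊓ V) b = QC.res (ClSub.idealMod I1) inf_le_left a := by
      apply QC.app_injective_of_mono (ClSub.idealModι I1) (U ⊓ V)
      rw [← QC.app_res, ha]
      refine Eq.trans ?_ hb
      rw [← hj]
      rfl
    refine (congr_arg (π (U ⊓ V)) this.symm).trans ?_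
    exact ConcreteCategory.congr_hom (NatTrans.congr_app (congr_arg (fun m => m.hom) S.zero) (op (U ⊓ V))) b
  let F : TopCat.Sheaf AddCommGrpCat.{u} X.carrier := S.X₃
  let W : ULift.{u} Bool → X.Opens := fun i => if i.down then U else V
  obtain ⟨q, hq, -⟩ := F.existsUnique_gluing' W ⊤ (fun i => homOfLE le_top)
    (fun y _ => Opens.mem_iSup.mpr (if hy : y = x then ⟨⟨true⟩, hy ▸ hxU⟩ else ⟨⟨false⟩, hy⟩))
    (fun i => match i with
      | ⟨true⟩ => π U a
      | ⟨false⟩ => 0)
    (by
      rintro ⟨_ | _⟩ ⟨_ | _⟩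
      · simp
      · have e : Opens.infLERight V U = (eqToHom (inf_comm V U)) ≫ homOfLE (inf_le_left : U ⊓ V ≤ U) :=
          Subsingleton.elim _ _
        refine (map_zero _).trans (Eq.symm ?_)
        change S.X₃.obj.map (Opens.infLERight V U).op (π U a) = 0
        rw [e, op_comp, Functor.map_comp, ConcreteCategory.comp_apply, hzero, map_zero]
      · refine (Eq.trans ?_ (map_zero _).symm)
        exact hzero
      · rfl)
  obtain ⟨l, hl⟩ := sections_surjective_top hS (h _ (ClSub.idealModι I2) inferInstance hI2) q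
  refine ⟨(ClSub.idealModι I1).app ⊤ l, ?_, fun y hy => ?_⟩
  · have hd : π U (QC.res (ClSub.idealMod I1) le_top l - a) = 0 := by
      rw [map_sub, sub_eq_zero]
      refine (NatTrans.naturality_apply S.g.hom (homOfLE (le_top : U ≤ ⊤)).op l).trans ?_
      rw [hl]
      exact hq ⟨true⟩
    obtain ⟨c, hc⟩ := sections_exact hS U _ hd
    have hc' : (ClSub.idealModι I2).app U c =
        (show Γ(X, U) from QC.resO X (le_top : U ≤ ⊤) ((ClSub.idealModι I1).app ⊤ l)) - (1 : Γ(X, U)) := by
      have := congr_arg ((ClSub.idealModι I1).app U) hc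
      rw [map_sub, ← QC.app_res, ha] at this
      refine Eq.trans ?_ this
      rw [← hj]
      rfl
    have hn : x ∉ X.basicOpen (QC.resO X (le_top : U ≤ ⊤) ((ClSub.idealModι I1).app ⊤ l) - 1) :=
      basicOpen_disjoint_of_range I2 _ ⟨c, hc'⟩ x (by
        change x ∈ (I2.support : Set X)
        rw [s2]; exact Or.inr rfl)
    set g := QC.resO X (le_top : U ≤ ⊤) ((ClSub.idealModι I1).app ⊤ l)
    have : x ∈ X.basicOpen g := by
      rw [X.mem_basicOpen g x hxU]
      rw [X.mem_basicOpen (g - 1) x hxU] at hn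
      rcases IsLocalRing.isUnit_or_isUnit_of_add_one
        (show X.presheaf.germ U x hxU g + -(X.presheaf.germ U x hxU (g - 1)) = 1 by
          rw [map_sub, map_one]; ring) with h1 | h1
      · exact h1
      · exact absurd (IsUnit.neg_iff _ |>.mp h1) hn
    exact X.basicOpen_res _ (homOfLE (le_top : U ≤ ⊤)).op ▸ this |>.2
  · by_contra hyU
    exact basicOpen_disjoint_of_range I1 _ ⟨l, rfl⟩ y (by
      change y ∈ (I1.support : Set X)
      rw [s1]; exact hyU) hy

lemma subsingleton_hh_of_mono_epi {A K B : X.Modules} (i : A ⟶ K) (p : K ⟶ B) (w : i ≫ p = 0)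
    (hS : (ShortComplex.mk i p w).ShortExact) (hA : Subsingleton (Coh.HH X A 1))
    (hB : Subsingleton (Coh.HH X B 1)) : Subsingleton (Coh.HH X K 1) := by
  have : PreservesFiniteLimits (SheafOfModules.toSheaf X.ringCatSheaf) := inferInstance
  have : PreservesFiniteColimits (SheafOfModules.toSheaf X.ringCatSheaf) := toSheaf_preservesFiniteColimits _
  have hS' := hS.map_of_exact (SheafOfModules.toSheaf X.ringCatSheaf)
  refine subsingleton_of_forall_eq 0 fun x => ?_
  obtain ⟨y, hy⟩ := Abelian.Ext.covariant_sequence_exact₂ _ hS' x (@Subsingleton.elim _ hB _ _)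
  rw [← hy, @Subsingleton.elim _ hA y 0, Abelian.Ext.zero_comp]

lemma subH1Zero_biprod {A B : X.Modules} (hBq : Coh.IsQCoh B)
    (hA : SubH1Zero A) (hB : SubH1Zero B) : SubH1Zero (A ⊞ B) := by
  intro K i _ hK
  let q := i ≫ biprod.snd
  have hker : (kernel.ι q ≫ i) ≫ biprod.snd = 0 := by rw [Category.assoc, kernel.condition]
  let j : kernel q ⟶ A := (kernel.ι q ≫ i) ≫ biprod.fst
  have : Mono j := Preadditive.mono_of_cancel_zero _ fun {Z} g hg => by
    rw [← cancel_mono (kernel.ι q ≫ i), zero_comp]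
    refine biprod.hom_ext _ _ ?_ ?_
    · rw [zero_comp]
      exact (Category.assoc _ _ _).trans hg
    · rw [zero_comp, Category.assoc, hker, comp_zero]
  refine subsingleton_hh_of_mono_epi (kernel.ι q) (Abelian.factorThruImage q)
    (by rw [← cancel_mono (Abelian.image.ι q), Category.assoc, Abelian.image.fac, kernel.condition, zero_comp])
    { exact := ShortComplex.exact_of_f_is_kernel _
        (KernelFork.IsLimit.ofι' _ _ fun {W} k hk => ⟨kernel.lift q k (by
          rw [← Abelian.image.fac q, ← Category.assoc]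
          exact (congr_arg (· ≫ Abelian.image.ι q) hk).trans zero_comp), kernel.lift_ι _ _ _⟩) }
    (hA _ j inferInstance (QC.isQCoh_kernel hK hBq q))
    (hB _ (Abelian.image.ι q) inferInstance (QC.isQCoh_image hK hBq q))

/-- Multiplication by a global function, as a map of modules. -/
def mulHom (a : Γ(X, ⊤)) : Coh.structureModule X ⟶ Coh.structureModule X :=
  (SheafOfModules.unitHomEquiv (R := X.ringCatSheaf) (Coh.structureModule X)).symm
    (PresheafOfModules.sectionsMk (fun W => QC.resO X (le_top : W.unop ≤ ⊤) a)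
      fun _ _ f => QC.resO_resO f.unop.le le_top a)

lemma mulHom_app (a : Γ(X, ⊤)) (W : X.Opens) (t : Γ(X, W)) :
    ((mulHom a).app W t : Γ(X, W)) = t * QC.resO X (le_top : W ≤ ⊤) a := by
  have h1 : ((mulHom a).app W (1 : Γ(X, W)) : Γ(X, W)) = QC.resO X (le_top : W ≤ ⊤) a :=
    congr_arg (fun s : (Coh.structureModule X).sections => (s.1 (op W) : Γ(X, W)))
      ((SheafOfModules.unitHomEquiv (R := X.ringCatSheaf) (Coh.structureModule X)).apply_symm_apply _)
  have h2 := Scheme.Modules.Hom.app_smul (mulHom a) (U := W) t (1 : Γ(X, W))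
  refine Eq.trans ?_ (congr_arg (t * ·) h1)
  refine Eq.trans ?_ h2
  exact congr_arg ((mulHom a).app W) (mul_one t).symm

lemma isQCoh_biprod {A B : X.Modules} (hA : Coh.IsQCoh A) (hB : Coh.IsQCoh B) : Coh.IsQCoh (A ⊞ B) :=
  QC.isQCoh_of_iso (biprod.isoCoprod A B ≪≫
    (Sigma.whiskerEquiv (g := fun j : ULift.{u} WalkingPair => pairFunction A B j.down) Equiv.ulift.symm
      (fun _ => Iso.refl _))).symm
    (QC.isQCoh_colimit (Discrete.functor _) fun j => by
      rcases j with ⟨⟨_ | _⟩⟩
      · exact hA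
      · exact hB)

/-- `O^n` with a map to `O` given by a list of functions. -/
def combo : List Γ(X, ⊤) → Σ F : X.Modules, (F ⟶ Coh.structureModule X)
  | [] => ⟨Coh.structureModule X, 0⟩
  | a :: l => ⟨Coh.structureModule X ⊞ (combo l).1, biprod.desc (mulHom a) (combo l).2⟩

lemma combo_qcoh : ∀ l : List Γ(X, ⊤), Coh.IsQCoh (combo l).1
  | [] => QC.isQCoh_unit X
  | _ :: l => isQCoh_biprod (QC.isQCoh_unit X) (combo_qcoh l)

lemma combo_subH1Zero (h : SubH1Zero (Coh.structureModule X)) : ∀ l : List Γ(X, ⊤), SubH1Zero (combo l).1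
  | [] => h
  | _ :: l => subH1Zero_biprod (combo_qcoh l) h (combo_subH1Zero h l)

lemma combo_mem_span : ∀ (l : List Γ(X, ⊤)) (y : Γ((combo l).1, ⊤)),
    (((combo l).2.app ⊤ y : Γ(Coh.structureModule X, ⊤)) : Γ(X, ⊤)) ∈ Ideal.span {b | b ∈ l}
  | [], y => by
    change (0 : Γ(X, ⊤)) ∈ _
    exact Submodule.zero_mem _
  | a :: l, y => by
    have e : biprod.desc (mulHom a) (combo l).2 =
        biprod.fst ≫ mulHom a + biprod.snd ≫ (combo l).2 := biprod.desc_eq
    change ((biprod.desc (mulHom a) (combo l).2).app ⊤ y : Γ(X, ⊤)) ∈ _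
    rw [e, Scheme.Modules.Hom.add_app]
    change ((show Γ(X, ⊤) from
        (mulHom a).app ⊤ ((biprod.fst : Coh.structureModule X ⊞ (combo l).1 ⟶ _).app ⊤ y)) +
      (show Γ(X, ⊤) from
        (combo l).2.app ⊤ ((biprod.snd : Coh.structureModule X ⊞ (combo l).1 ⟶ _).app ⊤ y)) : Γ(X, ⊤)) ∈
      Ideal.span {b : Γ(X, ⊤) | b ∈ a :: l}
    refine Ideal.add_mem _ ?_ (Ideal.span_mono (fun b hb => List.mem_cons_of_mem _ hb) (combo_mem_span l _))
    rw [mulHom_app, QC.resO_self]
    exact Ideal.mul_mem_left _ _ (Ideal.subset_span List.mem_cons_self)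

lemma combo_loc : ∀ (l : List Γ(X, ⊤)) (a : Γ(X, ⊤)), a ∈ l → ∀ (W : X.Opens), W ≤ X.basicOpen a →
    Function.Surjective ((combo l).2.app W)
  | [], a, h, _, _ => by simp at h
  | b :: l, a, h, W, hW => by
    intro t
    rcases List.mem_cons.mp h with rfl | h
    · have hu : IsUnit (QC.resO X (le_top : W ≤ ⊤) a) := by
        have := RingedSpace.isUnit_res_basicOpen X.toRingedSpace a
        have h2 := this.map (QC.resO X hW)
        rwa [show QC.resO X (le_top : W ≤ ⊤) a = QC.resO X hW (QC.resO X (X.basicOpen_le a) a) from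
          (QC.resO_resO _ _ _).symm]
      let u : Γ(Coh.structureModule X, W) :=
        show Γ(X, W) from (show Γ(X, W) from t) * (↑hu.unit⁻¹ : Γ(X, W))
      refine ⟨(biprod.inl : _ ⟶ Coh.structureModule X ⊞ (combo l).1).app W u, ?_⟩
      change (biprod.inl ≫ biprod.desc (mulHom a) (combo l).2).app W u = t
      rw [biprod.inl_desc]
      refine (mulHom_app a W u).trans ?_
      change (show Γ(X, W) from t) * (↑hu.unit⁻¹ : Γ(X, W)) * _ = (show Γ(X, W) from t)
      rw [mul_assoc, IsUnit.val_inv_mul, mul_one]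
    · obtain ⟨y, hy⟩ := combo_loc l a h W hW t
      refine ⟨(biprod.inr : _ ⟶ Coh.structureModule X ⊞ (combo l).1).app W y, ?_⟩
      change (biprod.inr ≫ biprod.desc (mulHom b) (combo l).2).app W _ = t
      rw [biprod.inr_desc]
      exact hy

/-- Serre's criterion. -/
theorem isAffine_of_subH1Zero [CompactSpace X] (h : SubH1Zero (Coh.structureModule X)) : IsAffine X := by
  classical
  have hpt : ∀ x : {x : X // IsClosed ({x} : Set X)}, ∃ f : Γ(X, ⊤),
      IsAffineOpen (X.basicOpen f) ∧ x.1 ∈ X.basicOpen f := fun x => by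
    obtain ⟨U, hU, hxU⟩ := QC.exists_affine_mem (X := X) x.1
    obtain ⟨f, hxf, hf⟩ := exists_basicOpen_le_of_isClosed h x.2 hxU
    refine ⟨f, ?_, hxf⟩
    have := hU.basicOpen (QC.resO X (le_top : U ≤ ⊤) f)
    rwa [show X.basicOpen (QC.resO X (le_top : U ≤ ⊤) f) = X.basicOpen f from
      (X.basicOpen_res _ _).trans (inf_eq_right.mpr hf)] at this
  choose f hfa hfx using hpt
  have hcov : ∀ y : X, ∃ x, y ∈ X.basicOpen (f x) := fun y => by
    obtain ⟨x, hxy, hx⟩ := (isClosed_closure (s := ({y} : Set X))).exists_closed_singleton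
      ⟨y, subset_closure rfl⟩
    exact ⟨⟨x, hx⟩, (specializes_iff_mem_closure.mpr hxy).mem_open (X.basicOpen _).2 (hfx ⟨x, hx⟩)⟩
  obtain ⟨s, hs⟩ := isCompact_univ.elim_finite_subcover (fun x => (X.basicOpen (f x) : Set X))
    (fun x => (X.basicOpen (f x)).2) (fun y _ => Set.mem_iUnion.mpr (hcov y))
  let l := s.toList.map f
  let T := SheafOfModules.toSheaf X.ringCatSheaf
  have : PreservesFiniteLimits T := inferInstance
  have : PreservesFiniteColimits T := toSheaf_preservesFiniteColimits _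
  have : Epi (T.map (combo l).2) := by
    refine (Sheaf.isLocallySurjective_iff_epi' AddCommGrpCat.{u} _).mp ⟨fun {W} t y hy => ?_⟩
    obtain ⟨x, hx, hyx⟩ := Set.mem_iUnion₂.mp (hs (Set.mem_univ y))
    refine ⟨W ⊓ X.basicOpen (f x), homOfLE inf_le_left, ?_, hy, hyx⟩
    exact combo_loc l (f x) (List.mem_map.mpr ⟨x, Finset.mem_toList.mpr hx, rfl⟩) _ inf_le_right _
  let S := ShortComplex.mk (kernel.ι (combo l).2) (combo l).2 (kernel.condition _)
  have hS : (S.map T).ShortExact :=
    { exact := (ShortComplex.exact_of_f_is_kernel S (kernelIsKernel _)).map T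
      mono_f := inferInstanceAs (Mono (T.map (kernel.ι (combo l).2)))
      epi_g := this }
  obtain ⟨y, hy⟩ := sections_surjective_top hS
    (combo_subH1Zero h l _ (kernel.ι (combo l).2) inferInstance
      (QC.isQCoh_kernel (combo_qcoh l) (QC.isQCoh_unit X) _))
    (show Γ(Coh.structureModule X, ⊤) from (1 : Γ(X, ⊤)))
  refine isAffine_of_isAffineOpen_basicOpen {b | b ∈ l} ((Ideal.eq_top_iff_one _).mpr ?_) fun b hb => ?_
  · have := combo_mem_span l y
    have e : ∀ z : Γ(X, ⊤), z ∈ Ideal.span {b | b ∈ l} → z = 1 → (1 : Γ(X, ⊤)) ∈ Ideal.span {b | b ∈ l} :=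
      fun z hz e => e ▸ hz
    exact e _ this hy
  · obtain ⟨x, -, rfl⟩ := List.mem_map.mp hb
    exact hfa x

end Groth.Agent.CohQC
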