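import Groth.Agent.CohQC.Affineness
import Groth.Prelude.Def_FlatMod2

/-!
Affineness from exactness of global sections on quasi-coherent submodules of free modules.
-/

universe u

open CategoryTheory Category Limits Opposite TopologicalSpace AlgebraicGeometry
open Groth.Agent.SiteCoh

set_option backward.isDefEq.respectTransparency false

noncomputable section

namespace Groth.Agent.CohQC

attribute [local instance] Abelian.hasFiniteBiproducts

variable {X : Scheme.{u}}

/-- Global sections are exact on quasi-coherent submodules of finite free modules. -/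
def SecExact (X : Scheme.{u}) : Prop :=
  ∀ (A B : X.Modules) (p : A ⟶ B), Epi p → Coh.IsQCoh A → Coh.IsQCoh B →
    (∃ (n : ℕ) (i : A ⟶ FlatMod.freeMod X n), Mono i) → Function.Surjective (p.app ⊤)

lemma mono_toFreeOne {A : X.Modules} (i : A ⟶ Coh.structureModule X) [Mono i] :
    Mono (i ≫ Sigma.ι (fun _ : Fin 1 => Coh.structureModule X) 0) := by
  have : Mono (Sigma.ι (fun _ : Fin 1 => Coh.structureModule X) 0) :=
    IsSplitMono.mono _
  exact mono_comp _ _

lemma surjective_monoSeq_top (h : SecExact X) {A B : X.Modules} (j : A ⟶ B) [Mono j]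
    (hA : Coh.IsQCoh A) (hB : Coh.IsQCoh B) (hF : ∃ (n : ℕ) (i : B ⟶ FlatMod.freeMod X n), Mono i) :
    Function.Surjective ((monoSeq j).g.hom.app (op (⊤ : X.Opens))) := by
  let T := SheafOfModules.toSheaf X.ringCatSheaf
  have : PreservesFiniteColimits T := toSheaf_preservesFiniteColimits _
  intro q
  let c := cokernelComparison j T
  obtain ⟨l, hl⟩ := h B (cokernel j) (cokernel.π j) inferInstance hB
    (QC.isQCoh_cokernel hA hB j) hF (c.hom.app (op ⊤) q)
  refine ⟨l, ?_⟩
  have e : cokernel.π (T.map j) ≫ c = T.map (cokernel.π j) := π_comp_cokernelComparison j T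
  have hinj : Function.Injective (c.hom.app (op (⊤ : X.Opens))) :=
    Function.LeftInverse.injective (g := (inv c).hom.app (op (⊤ : X.Opens))) fun z =>
      ConcreteCategory.congr_hom congr(($(IsIso.hom_inv_id c)).hom.app (op (⊤ : X.Opens))) z
  apply hinj
  exact (ConcreteCategory.congr_hom congr(($e).hom.app (op (⊤ : X.Opens))) l).trans hl

lemma exists_basicOpen_le_of_secExact (h : SecExact X) {x : X}
    (hx : IsClosed ({x} : Set X)) {U : X.Opens} (hxU : x ∈ U) :
    ∃ f : Γ(X, ⊤), x ∈ X.basicOpen f ∧ X.basicOpen f ≤ U := by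
  classical
  let V : X.Opens := ⟨{x}ᶜ, hx.isOpen_compl⟩
  let Z1 : Closeds X := ⟨(U : Set X)ᶜ, U.2.isClosed_compl⟩
  let Z2 : Closeds X := ⟨(U : Set X)ᶜ ∪ {x}, U.2.isClosed_compl.union hx⟩
  let I1 := Scheme.IdealSheafData.vanishingIdeal Z1
  let I2 := Scheme.IdealSheafData.vanishingIdeal Z2
  have s1 : (I1.support : Set X) = (U : Set X)ᶜ := Scheme.IdealSheafData.coe_support_vanishingIdeal _
  have s2 : (I2.support : Set X) = (U : Set X)ᶜ ∪ {x} := Scheme.IdealSheafData.coe_support_vanishingIdeal _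
  obtain ⟨j, hj⟩ := QC.exists_lift_of_range (ClSub.idealModι I1) (ClSub.idealModι I2) fun O a =>
    range_idealModι_mono (Scheme.IdealSheafData.vanishingIdeal_antimono
      (show Z1 ≤ Z2 from fun y hy => Or.inl hy)) O _ ⟨a, rfl⟩
  have : Mono j := by
    have : Mono (j ≫ ClSub.idealModι I1) := hj ▸ inferInstance
    exact mono_of_mono j (ClSub.idealModι I1)
  have hS := monoSeq_shortExact j
  have hI2 : Coh.IsQCoh (ClSub.idealMod I2) := QC.isQCoh_idealMod I2
  -- the local section
  obtain ⟨a, ha⟩ := range_idealModι_of_disjoint I1 U (by rw [s1, Set.inter_compl_self]) 1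
  let S := monoSeq j
  let π := fun W : X.Opens => (S.g.hom.app (op W))
  have hzero : S.X₃.obj.map (homOfLE (inf_le_left : U ⊓ V ≤ U)).op (π U a) = 0 := by
    rw [← NatTrans.naturality_apply]
    obtain ⟨b, hb⟩ := range_idealModι_of_disjoint I2 (U ⊓ V) (by
      rw [s2, Set.eq_empty_iff_forall_notMem]
      rintro y ⟨⟨hyU, hyV⟩, hy | hy⟩
      · exact hy hyU
      · exact hyV hy) (QC.resO X (inf_le_left : U ⊓ V ≤ U) 1)
    have : j.app (U ⊓ V) b = QC.res (ClSub.idealMod I1) inf_le_left a := by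
      apply QC.app_injective_of_mono (ClSub.idealModι I1) (U ⊓ V)
      rw [← QC.app_res, ha]
      refine Eq.trans ?_ hb
      rw [← hj]
      rfl
    refine (congr_arg (π (U ⊓ V)) this.symm).trans ?_
    exact ConcreteCategory.congr_hom (NatTrans.congr_app (congr_arg (fun m => m.hom) S.zero) (op (U ⊓ V))) b
  let F : TopCat.Sheaf AddCommGrpCat.{u} X.carrier := S.X₃
  let W : ULift.{u} Bool → X.Opens := fun i => if i.down then U else V
  obtain ⟨q, hq, -⟩ := F.existsUnique_gluing' W ⊤ (fun i => homOfLE le_top)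
    (fun y _ => Opens.mem_iSup.mpr (if hy : y = x then ⟨⟨true⟩, hy ▸ hxU⟩ else ⟨⟨false⟩, hy⟩))
    (fun i => match i with
      | ⟨true⟩ => π U a
      | ⟨false⟩ => 0)
    (by
      rintro ⟨_ | _⟩ ⟨_ | _⟩
      · simp
      · have e : Opens.infLERight V U = (eqToHom (inf_comm V U)) ≫ homOfLE (inf_le_left : U ⊓ V ≤ U) :=
          Subsingleton.elim _ _
        refine (map_zero _).trans (Eq.symm ?_)
        change S.X₃.obj.map (Opens.infLERight V U).op (π U a) = 0
        rw [e, op_comp, Functor.map_comp, ConcreteCategory.comp_apply, hzero, map_zero]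
      · refine (Eq.trans ?_ (map_zero _).symm)
        exact hzero
      · rfl)
  obtain ⟨l, hl⟩ := surjective_monoSeq_top h j hI2 (QC.isQCoh_idealMod I1) ⟨1, _, mono_toFreeOne (ClSub.idealModι I1)⟩ q
  refine ⟨(ClSub.idealModι I1).app ⊤ l, ?_, fun y hy => ?_⟩
  · have hd : π U (QC.res (ClSub.idealMod I1) le_top l - a) = 0 := by
      rw [map_sub, sub_eq_zero]
      refine (NatTrans.naturality_apply S.g.hom (homOfLE (le_top : U ≤ ⊤)).op l).trans ?_
      rw [hl]
      exact hq ⟨true⟩
    obtain ⟨c, hc⟩ := sections_exact hS U _ hd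
    have hc' : (ClSub.idealModι I2).app U c =
        (show Γ(X, U) from QC.resO X (le_top : U ≤ ⊤) ((ClSub.idealModι I1).app ⊤ l)) - (1 : Γ(X, U)) := by
      have := congr_arg ((ClSub.idealModι I1).app U) hc
      rw [map_sub, ← QC.app_res, ha] at this
      refine Eq.trans ?_ this
      rw [← hj]
      rfl
    have hn : x ∉ X.basicOpen (QC.resO X (le_top : U ≤ ⊤) ((ClSub.idealModι I1).app ⊤ l) - 1) :=
      basicOpen_disjoint_of_range I2 _ ⟨c, hc'⟩ x (by
        change x ∈ (I2.support : Set X)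
        rw [s2]; exact Or.inr rfl)
    set g := QC.resO X (le_top : U ≤ ⊤) ((ClSub.idealModι I1).app ⊤ l)
    have : x ∈ X.basicOpen g := by
      rw [X.mem_basicOpen g x hxU]
      rw [X.mem_basicOpen (g - 1) x hxU] at hn
      rcases IsLocalRing.isUnit_or_isUnit_of_add_one
        (show X.presheaf.germ U x hxU g + -(X.presheaf.germ U x hxU (g - 1)) = 1 by
          rw [map_sub, map_one]; ring) with h1 | h1
      · exact h1
      · exact absurd (IsUnit.neg_iff _ |>.mp h1) hn
    exact X.basicOpen_res _ (homOfLE (le_top : U ≤ ⊤)).op ▸ this |>.2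
  · by_contra hyU
    exact basicOpen_disjoint_of_range I1 _ ⟨l, rfl⟩ y (by
      change y ∈ (I1.support : Set X)
      rw [s1]; exact hyU) hy

lemma exists_retract_combo : ∀ l : List Γ(X, ⊤), ∃ (n : ℕ) (k : (combo l).1 ⟶ FlatMod.freeMod X n)
    (r : FlatMod.freeMod X n ⟶ (combo l).1), k ≫ r = 𝟙 _
  | [] => ⟨1, Sigma.ι (fun _ : Fin 1 => Coh.structureModule X) 0, Sigma.desc (fun _ => 𝟙 _),
      Sigma.ι_desc _ _⟩
  | a :: l => by
    obtain ⟨n, k, r, hkr⟩ := exists_retract_combo l
    refine ⟨n + 1, biprod.desc (Sigma.ι (fun _ : Fin (n + 1) => Coh.structureModule X) 0)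
      (k ≫ Sigma.desc fun j => Sigma.ι (fun _ : Fin (n + 1) => Coh.structureModule X) j.succ),
      Sigma.desc (Fin.cases biprod.inl fun j =>
        Sigma.ι (fun _ : Fin n => Coh.structureModule X) j ≫ r ≫ biprod.inr), ?_⟩
    refine biprod.hom_ext' _ _ ?_ ?_
    · rw [biprod.inl_desc_assoc, Sigma.ι_desc, Fin.cases_zero]
      exact (Category.comp_id _).symm
    · rw [biprod.inr_desc_assoc, Category.assoc]
      have : (Sigma.desc fun j => Sigma.ι (fun _ : Fin (n + 1) => Coh.structureModule X) j.succ) ≫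
          Sigma.desc (Fin.cases biprod.inl fun j =>
            Sigma.ι (fun _ : Fin n => Coh.structureModule X) j ≫ r ≫
              (biprod.inr : _ ⟶ Coh.structureModule X ⊞ (combo l).1)) = r ≫ biprod.inr := by
        ext j
        simp
      refine (congrArg (k ≫ ·) this).trans ?_
      rw [reassoc_of% hkr]
      exact (Category.comp_id _).symm

theorem isAffine_of_secExact [CompactSpace X] (h : SecExact X) : IsAffine X := by
  classical
  have hpt : ∀ x : {x : X // IsClosed ({x} : Set X)}, ∃ f : Γ(X, ⊤),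
      IsAffineOpen (X.basicOpen f) ∧ x.1 ∈ X.basicOpen f := fun x => by
    obtain ⟨U, hU, hxU⟩ := QC.exists_affine_mem (X := X) x.1
    obtain ⟨f, hxf, hf⟩ := exists_basicOpen_le_of_secExact h x.2 hxU
    refine ⟨f, ?_, hxf⟩
    have := hU.basicOpen (QC.resO X (le_top : U ≤ ⊤) f)
    rwa [show X.basicOpen (QC.resO X (le_top : U ≤ ⊤) f) = X.basicOpen f from
      (X.basicOpen_res _ _).trans (inf_eq_right.mpr hf)] at this
  choose f hfa hfx using hpt
  have hcov : ∀ y : X, ∃ x, y ∈ X.basicOpen (f x) := fun y => by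
    obtain ⟨x, hxy, hx⟩ := (isClosed_closure (s := ({y} : Set X))).exists_closed_singleton
      ⟨y, subset_closure rfl⟩
    exact ⟨⟨x, hx⟩, (specializes_iff_mem_closure.mpr hxy).mem_open (X.basicOpen _).2 (hfx ⟨x, hx⟩)⟩
  obtain ⟨s, hs⟩ := isCompact_univ.elim_finite_subcover (fun x => (X.basicOpen (f x) : Set X))
    (fun x => (X.basicOpen (f x)).2) (fun y _ => Set.mem_iUnion.mpr (hcov y))
  let l := s.toList.map f
  let T := SheafOfModules.toSheaf X.ringCatSheaf
  have hepi : Epi (T.map (combo l).2) := by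
    refine (Sheaf.isLocallySurjective_iff_epi' AddCommGrpCat.{u} _).mp ⟨fun {W} t y hy => ?_⟩
    obtain ⟨x, hx, hyx⟩ := Set.mem_iUnion₂.mp (hs (Set.mem_univ y))
    refine ⟨W ⊓ X.basicOpen (f x), homOfLE inf_le_left, ?_, hy, hyx⟩
    exact combo_loc l (f x) (List.mem_map.mpr ⟨x, Finset.mem_toList.mpr hx, rfl⟩) _ inf_le_right _
  have hepi' : Epi (combo l).2 := T.epi_of_epi_map hepi
  obtain ⟨n, k, r, hkr⟩ := exists_retract_combo l
  have : IsSplitMono k := IsSplitMono.mk' ⟨r, hkr⟩
  obtain ⟨y, hy⟩ := h _ _ (combo l).2 hepi' (combo_qcoh l) (QC.isQCoh_unit X)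
    ⟨n, k, inferInstance⟩ (show Γ(Coh.structureModule X, ⊤) from (1 : Γ(X, ⊤)))
  refine isAffine_of_isAffineOpen_basicOpen {b | b ∈ l} ((Ideal.eq_top_iff_one _).mpr ?_) fun b hb => ?_
  · have := combo_mem_span l y
    have e : ∀ z : Γ(X, ⊤), z ∈ Ideal.span {b | b ∈ l} → z = 1 → (1 : Γ(X, ⊤)) ∈ Ideal.span {b | b ∈ l} :=
      fun z hz e => e ▸ hz
    exact e _ this hy
  · obtain ⟨x, -, rfl⟩ := List.mem_map.mp hb
    exact hfa x

end Groth.Agent.CohQC
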